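import Cfsg.Agent.Lib.Spor.Leech.OddFix.Lattice

/-!
Signed coordinate permutations of the rank 24 lattice given by numbers.
-/

set_option autoImplicit false
set_option maxRecDepth 100000

namespace Cfsg.Agent.Spor.Leech.OddFix

open Cfsg
open Cfsg.Agent.Spor.CoSuz (decV HasT)
open scoped Pointwise

/-- The rows of a coordinate permutation. -/
def permP (R : ℕ) : List ℕ :=
  (List.range 24).map fun i => Golay.pack 24 fun j => if j = Golay.get R i then 24 else 16

theorem hasT_perm {R : ℕ} (hR : Golay.valid R = true) {π : Equiv.Perm GolayPt} (hπ : π ∈ M24)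
    (e : Golay.permOf R = π) : HasT (mono hπ empty_code) (permP R) where
  len := by simp [permP]
  img q := by
    rw [permP, List.getD_eq_getElem?_getD, List.getElem?_map, List.getElem?_range (Golay.idx_lt q),
      Option.map_some, Option.getD_some, mono_axis, if_neg (Finset.notMem_empty _), axis_val, encV]
    refine pack_congr 24 _ _ fun j hj => ?_
    have he : Golay.idx (π q) = Golay.get R (Golay.idx q) := by rw [← e, Golay.idx_permOf hR]
    by_cases hjq : j = Golay.get R (Golay.idx q)
    · rw [if_pos hjq, hjq, ← he, Golay.pt_idx, Pi.single_eq_same]; rfl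
    · rw [if_neg hjq, Pi.single_eq_of_ne]
      · rfl
      · intro h
        exact hjq (by rw [← he, ← h, Golay.idx_pt hj])

/-- A product after a signed permutation. -/
def dotI (R m X Y : ℕ) : ℤ :=
  ((List.range 24).map fun i =>
    if m.testBit (Golay.get R i) then -(((Golay.get X i : ℤ) - 16) * ((Golay.get Y (Golay.get R i) : ℤ) - 16))
    else ((Golay.get X i : ℤ) - 16) * ((Golay.get Y (Golay.get R i) : ℤ) - 16)).sum

theorem dot_signed {R : ℕ} (hR : Golay.valid R = true) {π : Equiv.Perm GolayPt} (e : Golay.permOf R = π) (m X Y : ℕ) :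
    dotInt (signedPerm π (Golay.pts m) (decV X)) (decV Y) = dotI R m X Y := by
  rw [dotI, sum_range_idx, dotInt]
  rw [← Equiv.sum_comp π]
  refine Finset.sum_congr rfl fun q _ => ?_
  have he : Golay.idx (π q) = Golay.get R (Golay.idx q) := by rw [← e, Golay.idx_permOf hR]
  simp only [signedPerm, Equiv.symm_apply_apply, Golay.mem_pts, he, decV]
  split_ifs <;> ring

theorem mono_mul_mono {σ τ : Equiv.Perm GolayPt} (hσ : σ ∈ M24) (hτ : τ ∈ M24) {c : Finset GolayPt}
    (hc : c ∈ supports (golayCode : Set (GolayPt → ZMod 2))) :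
    mono hσ hc * mono hτ empty_code = mono (mul_mem hσ hτ) hc ∧
      mono hτ empty_code * mono hσ hc = mono (mul_mem hτ hσ) (smul_supports hτ hc) := by
  constructor
  · refine ext_axis fun i => ?_
    rw [mul_smul, mono_axis hτ, if_neg (Finset.notMem_empty _), mono_axis, mono_axis, Equiv.Perm.mul_apply]
  · refine ext_axis fun i => ?_
    rw [mul_smul, mono_axis hσ, mono_axis (mul_mem hτ hσ), Equiv.Perm.mul_apply]
    have h : τ (σ i) ∈ τ • c ↔ σ i ∈ c := Finset.smul_mem_smul_finset_iff τ
    split_ifs with h1 h2 h2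
    · rw [co_neg, mono_axis, if_neg (Finset.notMem_empty _)]
    · exact absurd (h.2 h1) h2
    · exact absurd (h.1 h2) h1
    · rw [mono_axis, if_neg (Finset.notMem_empty _)]

end Cfsg.Agent.Spor.Leech.OddFix
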