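import Cfsg.Agent.Lib.Spor.Leech.MonsterPair
import Cfsg.Agent.Lib.Spor.CoSuz.Mat

/-!
The classes of the rank 24 lattice modulo two fixed by an automorphism of odd order, by coordinates.
-/

set_option autoImplicit false
set_option maxRecDepth 100000

namespace Cfsg.Agent.Spor.Leech.OddFix

open Cfsg

/-- A combination of given members. -/
def comb {n : ℕ} (Bs : Fin n → leechLattice) (a : Fin n → ZMod 2) : leechLattice :=
  ∑ k, if a k = 1 then Bs k else 0

/-- The coordinates of a class. -/
def co {n : ℕ} (Bs : Fin n → leechLattice) (Gi : Fin n → Fin n → ZMod 2) (v : leechLattice) : Fin n → ZMod 2 :=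
  fun i => ∑ j, Gi i j * ((dotInt (v : Vec) (Bs j : Vec) / 8 : ℤ) : ZMod 2)

/-- A member whose class is fixed. -/
def Fixed (P : Co0) (v : leechLattice) : Prop := cls (P • v) = cls v

/-- A basis of the fixed classes. -/
structure Fix (P : Co0) (p : ℕ) {n : ℕ} (Bs : Fin n → leechLattice) (Gi : Fin n → Fin n → ZMod 2) : Prop where
  odd : p % 2 = 1
  fix : ∀ k, Fixed P (Bs k)
  gram : ∀ i k, co Bs Gi (Bs k) i = if i = k then 1 else 0
  span : ∀ w : leechLattice, ∃ a, cls (∑ i ∈ Finset.range p, P ^ i • w) = cls (comb Bs a)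

theorem cls_add (u v : leechLattice) : cls (u + v) = cls u + cls v := rfl

theorem cls_sum {ι : Type*} (s : Finset ι) (f : ι → leechLattice) : cls (∑ i ∈ s, f i) = ∑ i ∈ s, cls (f i) :=
  map_sum (QuotientAddGroup.mk' ((leechLattice.map dbl).addSubgroupOf leechLattice)) f s

theorem cls_self (u : leechLattice) : cls u + cls u = cls 0 := by
  rw [← cls_add]
  exact cls_iff_double.2 ⟨u, by rw [sub_zero]⟩

theorem nsmul_odd {p : ℕ} (hp : p % 2 = 1) (u : leechLattice) : p • cls u = cls u := by
  obtain ⟨k, rfl⟩ : ∃ k, p = 2 * k + 1 := ⟨p / 2, by omega⟩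
  rw [add_nsmul, one_nsmul, mul_nsmul, two_nsmul, cls_self,
    show cls (0 : leechLattice) = 0 from rfl, nsmul_zero, zero_add]

namespace Fixed

variable {P : Co0} {u v : leechLattice}

theorem congr (hv : Fixed P v) (h : cls u = cls v) : Fixed P u := by
  unfold Fixed at *
  rw [congr_smul h, hv, h]

theorem add (hu : Fixed P u) (hv : Fixed P v) : Fixed P (u + v) := by
  unfold Fixed at *
  rw [co_add, cls_add, hu, hv, ← cls_add]

theorem zero : Fixed P 0 := by
  unfold Fixed
  rw [co_zero]

theorem of_comm {g : Co0} (hg : g * P = P * g) (hv : Fixed P v) : Fixed P (g • v) := by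
  unfold Fixed at *
  rw [← mul_smul, ← hg, mul_smul]
  exact congr_smul hv

theorem pow (hv : Fixed P v) : ∀ i : ℕ, cls (P ^ i • v) = cls v
  | 0 => by rw [pow_zero, one_smul]
  | i + 1 => by rw [pow_succ, mul_smul]; exact (congr_smul hv).trans (pow hv i)

end Fixed

section

variable {n : ℕ} {Bs : Fin n → leechLattice} {Gi : Fin n → Fin n → ZMod 2}

theorem co_add' (u v : leechLattice) : co Bs Gi (u + v) = co Bs Gi u + co Bs Gi v := by
  funext i
  simp only [co, Pi.add_apply, AddSubgroup.coe_add, dotInt_add_left, ← Finset.sum_add_distrib]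
  refine Finset.sum_congr rfl fun j _ => ?_
  rw [Int.add_ediv_of_dvd_left (dot_dvd u.2 (Bs j).2), Int.cast_add, mul_add]

theorem co_zero' : co Bs Gi 0 = 0 := by
  have h := co_add' (Bs := Bs) (Gi := Gi) 0 0
  rw [add_zero] at h
  exact left_eq_add.1 h

/-- The coordinates as a homomorphism. -/
def coHom' (Bs : Fin n → leechLattice) (Gi : Fin n → Fin n → ZMod 2) : leechLattice →+ (Fin n → ZMod 2) where
  toFun := co Bs Gi
  map_zero' := co_zero'
  map_add' := co_add'

theorem co_congr {u v : leechLattice} (h : cls u = cls v) : co Bs Gi u = co Bs Gi v := by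
  obtain ⟨w, hw⟩ := cls_iff_double.1 h
  rw [show u = v + (w + w) by rw [← hw]; abel, co_add', co_add']
  funext i
  simp only [Pi.add_apply]
  have : ∀ a : ZMod 2, a + a = 0 := by decide
  rw [this, add_zero]

theorem comb_fixed {P : Co0} (hB : ∀ k, Fixed P (Bs k)) (a : Fin n → ZMod 2) : Fixed P (comb Bs a) := by
  have : ∀ s : Finset (Fin n), Fixed P (∑ k ∈ s, if a k = 1 then Bs k else 0) := fun s => by
    induction s using Finset.induction_on with
    | empty => rw [Finset.sum_empty]; exact Fixed.zero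
    | @insert k s hk ih =>
      rw [Finset.sum_insert hk]
      refine Fixed.add ?_ ih
      split_ifs
      exacts [hB k, Fixed.zero]
  exact this _

end

namespace Fix

variable {P : Co0} {p n : ℕ} {Bs : Fin n → leechLattice} {Gi : Fin n → Fin n → ZMod 2}

theorem co_comb (L : Fix P p Bs Gi) (a : Fin n → ZMod 2) : co Bs Gi (comb Bs a) = a := by
  funext i
  show coHom' Bs Gi (comb Bs a) i = a i
  rw [comb, map_sum, Finset.sum_apply]
  have h : ∀ k, coHom' Bs Gi (if a k = 1 then Bs k else 0) i = if i = k then a k else 0 := fun k => by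
    have h2 : ∀ x : ZMod 2, x = 0 ∨ x = 1 := by decide
    rcases h2 (a k) with e | e <;> rw [e]
    · rw [if_neg (by decide), map_zero, Pi.zero_apply, ite_self]
    · rw [if_pos rfl]; exact L.gram i k
  simp only [h, Finset.sum_ite_eq, Finset.mem_univ, if_true]

theorem eq_comb (L : Fix P p Bs Gi) {w : leechLattice} (hw : Fixed P w) : cls w = cls (comb Bs (co Bs Gi w)) := by
  obtain ⟨a, ha⟩ := L.span w
  rw [cls_sum, Finset.sum_congr rfl fun i _ => hw.pow i, Finset.sum_const, Finset.card_range, nsmul_odd L.odd] at ha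
  rw [ha, co_congr ha, L.co_comb]

theorem co_inj (L : Fix P p Bs Gi) {u v : leechLattice} (hu : Fixed P u) (hv : Fixed P v) :
    co Bs Gi u = co Bs Gi v ↔ cls u = cls v :=
  ⟨fun h => by rw [L.eq_comb hu, h, ← L.eq_comb hv], co_congr⟩

theorem nondeg (L : Fix P p Bs Gi) {v : leechLattice} (hv : Fixed P v) (h : cls v ≠ cls 0) :
    ∃ k, ¬ (16 : ℤ) ∣ dotInt (v : Vec) (Bs k : Vec) := by
  by_contra hcon
  simp only [not_exists, not_not] at hcon
  refine h ((L.co_inj hv Fixed.zero).1 ?_)
  rw [co_zero']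
  funext i
  refine Finset.sum_eq_zero fun j _ => ?_
  obtain ⟨m, hm⟩ := hcon j
  rw [hm, show (16 : ℤ) * m / 8 = 2 * m by omega, Int.cast_mul, show ((2 : ℤ) : ZMod 2) = 0 from rfl, zero_mul,
    mul_zero]

end Fix

/-! ### The check of the spanning property -/

theorem mono_pow {σ : Equiv.Perm GolayPt} (hσ : σ ∈ M24) :
    ∀ i : ℕ, mono hσ empty_code ^ i = mono (pow_mem hσ i) empty_code
  | 0 => ext_axis fun j => by
    rw [pow_zero, one_smul, mono_axis, if_neg (Finset.notMem_empty _), pow_zero, Equiv.Perm.one_apply]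
  | i + 1 => by
    refine ext_axis fun j => ?_
    rw [pow_succ, mono_pow hσ i, mono_empty_mul]
    simp only [mono_axis, Finset.notMem_empty, if_false, pow_succ]

/-- A packed vector as a member. -/
def mkV (X : ℕ) (h : inL (CoSuz.decV X) = true) : leechLattice := ⟨CoSuz.decV X, mem_of_inL h⟩

/-- The sum over the powers less a combination. -/
def spanVec (p n : ℕ) (L : ℕ → ℕ) (B : List ℕ) (a l : ℕ) : Vec := fun q =>
  ((List.range p).map fun i => CoSuz.decV l (Golay.pt (Golay.get (L i) (Golay.idx q)))).sum -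
    ((List.range n).map fun k => if a.testBit k then CoSuz.decV (B.getD k 0) q else 0).sum

/-- The sum of a generator over the powers is congruent to the given combination. -/
def chkSpan (p n : ℕ) (L : ℕ → ℕ) (B : List ℕ) (l a : ℕ) : Bool :=
  decide (∀ q, spanVec p n L B a l q % 2 = 0) && inL fun q => spanVec p n L B a l q / 2

theorem sum_range_map {M : Type*} [AddCommMonoid M] (n : ℕ) (f : ℕ → M) :
    ((List.range n).map f).sum = ∑ i ∈ Finset.range n, f i := (List.sum_toFinset f List.nodup_range).symm.trans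
  (Finset.sum_congr (List.toFinset_range n) fun _ _ => rfl)

theorem latGens_inL : (CoSuz.latGens.all fun l => inL (CoSuz.decV l)) = true := by decide +kernel

theorem span_of_check {σ : Equiv.Perm GolayPt} (hσ : σ ∈ M24) {p n : ℕ} {Bs : Fin n → leechLattice}
    {L : ℕ → ℕ} {B A : List ℕ} (hL : ∀ i < p, ∀ q, Golay.pt (Golay.get (L i) (Golay.idx q)) = (σ ^ i).symm q)
    (hB : ∀ k : Fin n, (Bs k : Vec) = CoSuz.decV (B.getD k 0))
    (hlen : A.length = CoSuz.latGens.length)
    (hchk : ((CoSuz.latGens.zip A).all fun la => chkSpan p n L B la.1 la.2) = true) (w : leechLattice) :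
    ∃ a, cls (∑ i ∈ Finset.range p, mono hσ empty_code ^ i • w) = cls (comb Bs a) := by
  classical
  let T : leechLattice →+ leechLattice :=
    { toFun := fun w => ∑ i ∈ Finset.range p, mono hσ empty_code ^ i • w
      map_zero' := by simp [co_zero]
      map_add' := fun u v => by simp only [co_add, Finset.sum_add_distrib] }
  have hadd : ∀ a b, cls (comb Bs a) + cls (comb Bs b) = cls (comb Bs (a + b)) := by
    intro a b
    simp only [comb, cls_sum, ← Finset.sum_add_distrib]
    refine Finset.sum_congr rfl fun k _ => ?_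
    rw [Pi.add_apply]
    have h2 : ∀ x : ZMod 2, x = 0 ∨ x = 1 := by decide
    rcases h2 (a k) with e | e <;> rcases h2 (b k) with f | f <;> rw [e, f]
    · simp only [add_zero, show ((0 : ZMod 2) = 1) = False from eq_false (by decide), if_false]
      rw [← cls_add, add_zero]
    · simp only [zero_add, show ((0 : ZMod 2) = 1) = False from eq_false (by decide), if_false]
      rw [← cls_add, zero_add]
    · simp only [add_zero, show ((0 : ZMod 2) = 1) = False from eq_false (by decide), if_false]
      rw [← cls_add, add_zero]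
    · simp only [show ((1 : ZMod 2) + 1 = 1) = False from eq_false (by decide), if_false]
      exact cls_self _
  let S : AddSubgroup leechLattice :=
    { carrier := {u | ∃ a, cls (T u) = cls (comb Bs a)}
      zero_mem' := ⟨0, by simp [comb, T, co_zero]⟩
      add_mem' := fun {u v} ⟨a, ha⟩ ⟨b, hb⟩ => ⟨a + b, by rw [map_add, cls_add, ha, hb, hadd]⟩
      neg_mem' := fun {u} ⟨a, ha⟩ => ⟨a, by
        rw [map_neg, ← ha]; exact cls_iff_double.2 ⟨-T u, by abel⟩⟩ }
  have key : ∀ l ∈ CoSuz.latGens, ∀ hl : CoSuz.decV l ∈ leechLattice, (⟨_, hl⟩ : leechLattice) ∈ S := by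
    intro l hl hmem
    obtain ⟨j, hj, rfl⟩ := List.getElem_of_mem hl
    have h := List.all_eq_true.1 hchk (CoSuz.latGens[j], A[j]'(hlen ▸ hj))
      (List.mem_iff_getElem.2 ⟨j, by rw [List.length_zip]; omega, by simp⟩)
    simp only [chkSpan, Bool.and_eq_true, decide_eq_true_eq] at h
    refine ⟨fun k => if (A[j]'(hlen ▸ hj)).testBit k then 1 else 0, cls_eq.2 ⟨_, mem_of_inL h.2, ?_⟩⟩
    funext q
    have h2 := h.1 q
    have e1 : ((T ⟨_, hmem⟩ : leechLattice) : Vec) q =
        ∑ i ∈ Finset.range p, CoSuz.decV CoSuz.latGens[j] (Golay.pt (Golay.get (L i) (Golay.idx q))) := by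
      show ((∑ i ∈ Finset.range p, mono hσ empty_code ^ i • (⟨_, hmem⟩ : leechLattice) : leechLattice) : Vec) q = _
      rw [AddSubgroup.val_finset_sum, Finset.sum_apply]
      refine Finset.sum_congr rfl fun i hi => ?_
      rw [mono_pow, mono_apply, signedPerm, if_neg (Finset.notMem_empty _), hL i (Finset.mem_range.1 hi)]
    have e2 : ((comb Bs fun k => if (A[j]'(hlen ▸ hj)).testBit k then (1 : ZMod 2) else 0 : leechLattice) : Vec) q =
        ∑ k ∈ Finset.range n, if (A[j]'(hlen ▸ hj)).testBit k then CoSuz.decV (B.getD k 0) q else 0 := by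
      rw [comb, AddSubgroup.val_finset_sum, Finset.sum_apply, Finset.sum_range]
      refine Finset.sum_congr rfl fun k _ => ?_
      by_cases hk : (A[j]'(hlen ▸ hj)).testBit k = true
      · simp [hk, hB k]
      · simp [hk]
    simp only [Pi.sub_apply, Pi.smul_apply, nsmul_eq_mul, Nat.cast_ofNat, e1, e2]
    simp only [spanVec, sum_range_map] at h2 ⊢
    omega
  have hall : ∀ x ∈ leechLattice, ∀ hx : x ∈ leechLattice, (⟨x, hx⟩ : leechLattice) ∈ S := by
    intro x hx _
    obtain ⟨g1, g2, l, hl, e⟩ := CoSuz.latGens_ok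
    let H : AddSubgroup Vec := S.map leechLattice.subtype
    have hH : ∀ l ∈ CoSuz.latGens, ∀ y, (∀ q, CoSuz.decV l q = y q) → y ∈ H := by
      intro l hl y he
      obtain rfl : CoSuz.decV l = y := funext he
      have hm := mem_of_inL (List.all_eq_true.1 latGens_inL l hl)
      exact ⟨⟨_, hm⟩, key l hl hm, rfl⟩
    have hx' : x ∈ H := le_of_gens (H := H)
      (fun b hb => by obtain ⟨l, hl, e⟩ := g1 b hb; exact hH l hl _ e)
      (fun i s hs => by
        rcases hs with rfl | rfl
        · obtain ⟨l, hl, e⟩ := (g2 i).1; exact hH l hl _ e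
        · obtain ⟨l, hl, e⟩ := (g2 i).2; exact hH l hl _ e)
      (hH l hl _ e) hx
    obtain ⟨y, hy, rfl⟩ := hx'
    exact hy
  exact hall w w.2 w.2

end Cfsg.Agent.Spor.Leech.OddFix
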