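import Cfsg.Agent.Lib.Spor.Leech.OddFix.Setup

/-!
The conjugates of the centre in the extraspecial group of the centraliser of an element of odd prime order.
-/

set_option autoImplicit false
set_option maxRecDepth 100000
set_option linter.style.haveILetI false

noncomputable section

namespace Cfsg.Agent.Spor.Leech.OddFix

open Cfsg

/-- A member whose class is that of the image of the axis under an automorphism normalising the given one. -/
def Reached (P : Co0) (p : ℕ) (i₀ : GolayPt) (v : leechLattice) : Prop :=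
  ∃ g : Co0, (∃ i : ℕ, ¬ p ∣ i ∧ g * P * g⁻¹ = P ^ i) ∧ cls (g • axis i₀) = cls v

variable {G : Type*} [Group G] {z : G} {Q : Subgroup (Subgroup.centralizer ({z} : Set G))} [hQn : Q.Normal]
  {e : (Subgroup.centralizer ({z} : Set G)) ⧸ Q ≃* Cfsg.Spor.Co1} {ψ : leechLattice → Q ⧸ Subgroup.center Q}
  {p n : ℕ} {P : Co0} {Bs : Fin n → leechLattice} {Gi : Fin n → Fin n → ZMod 2} {b s : G} {i₀ : GolayPt}

namespace Setup

variable [Finite G]

theorem pow_ne (S : Setup z Q e ψ p P Bs Gi b s i₀) {i : ℕ} (hi : ¬ p ∣ i) :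
    Subgroup.zpowers (b ^ i) = Subgroup.zpowers b := by
  refine Subgroup.eq_of_le_of_card_ge (Subgroup.zpowers_le.2 (pow_mem (Subgroup.mem_zpowers b) i)) ?_
  rw [Nat.card_zpowers, Nat.card_zpowers,
    Nat.Coprime.orderOf_pow (by rw [S.ord]; exact S.prime.coprime_iff_not_dvd.2 hi)]

theorem norm_of (S : Setup z Q e ψ p P Bs Gi b s i₀) {c : G} {i : ℕ} (hi : ¬ p ∣ i) (hc : c * b * c⁻¹ = b ^ i) :
    c ∈ Subgroup.normalizer (Subgroup.zpowers b : Set G) := by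
  refine (Subgroup.mem_normalizer_iff_map_conj_eq).mpr ?_
  rw [MonoidHom.map_zpowers]
  show Subgroup.zpowers (c * b * c⁻¹) = _
  rw [hc, S.pow_ne hi]

theorem comm_zpowers {g x : G} {b : G} (hg : g * b = b * g) (hx : x ∈ Subgroup.zpowers b) : g * x = x * g := by
  obtain ⟨k, rfl⟩ := Subgroup.mem_zpowers_iff.1 hx
  exact ((show Commute g b from hg).zpow_right k).eq

/-- A conjugate in the extraspecial group reached from a normalising automorphism. -/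
theorem exists_carrier (S : Setup z Q e ψ p P Bs Gi b s i₀) {x : G} (hx : x ∈ S.Q0) {v : leechLattice}
    (hv : Rep ψ v x) (hr : Reached P p i₀ v) :
    ∃ c : G, c * z = z * c ∧ c ∈ Subgroup.normalizer (Subgroup.zpowers b : Set G) ∧ c * s * c⁻¹ = x := by
  obtain ⟨g, ⟨i, hi, hg⟩, hgv⟩ := hr
  obtain ⟨c, hc, hcb⟩ := S.exists_lift hi hg
  have hcz := Subgroup.mem_centralizer_singleton_iff.1 c.2
  have hr' := S.mt.rep_congr (S.mt.rep_conj hc S.rep) hgv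
  rcases S.mt.rep_unique hv hr' with e' | e'
  · exact ⟨c, hcz, S.norm_of hi hcb, e'⟩
  · have hxz : x ≠ z ∧ x ≠ 1 := by
      have hcs : ∀ w, (c : G) * s * (c : G)⁻¹ = w → (w = 1 → False) ∧ (w = z → False) := fun w hw => by
        obtain ⟨-, h1, h2⟩ := S.s_facts
        constructor
        · intro h; rw [h, conj_eq_one_iff] at hw; exact h1 hw
        · intro h; rw [h] at hw; refine h2 ?_
          calc s = (c : G)⁻¹ * ((c : G) * s * (c : G)⁻¹) * c := by group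
            _ = (c : G)⁻¹ * z * c := by rw [hw]
            _ = z := by rw [mul_assoc, ← hcz, inv_mul_cancel_left]
      refine ⟨fun h => (hcs _ e').1 (by rw [h, S.mt.z_sq]), fun h => (hcs _ e').2 (by rw [h, one_mul])⟩
    obtain ⟨q, hq, hqx⟩ := S.noncomm hx hxz.2 hxz.1
    have e2 := ((S.mt.ext.conj_cases hx.1 hq.1).resolve_left hqx).2
    have hqb := (S.mem_Q0.1 hq).2
    refine ⟨q * c, by rw [mul_assoc, hcz, ← mul_assoc, S.mt.ext.central q hq.1, mul_assoc], mul_mem ?_ (S.norm_of hi hcb), ?_⟩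
    · exact S.norm_of S.prime.not_dvd_one (by rw [pow_one, hqb, mul_inv_cancel_right])
    · calc q * (c : G) * s * (q * (c : G))⁻¹ = q * ((c : G) * s * (c : G)⁻¹) * q⁻¹ := by group
        _ = q * x * q⁻¹ * (q * z * q⁻¹) := by rw [e']; group
        _ = x := by rw [e2, S.mt.ext.central q hq.1, mul_inv_cancel_right, mul_assoc, S.mt.z_sq, mul_one]

/-- Some element of the centraliser of the subgroup moves the centre inside. -/
theorem exists_move_centre (S : Setup z Q e ψ p P Bs Gi b s i₀)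
    (hswap : ∃ h : G, h * z * h⁻¹ = s ∧ h * b * h⁻¹ ∈ Subgroup.zpowers b)
    (hnorm : ∀ i : ℕ, ¬ p ∣ i → ∃ g : Co0, g * P * g⁻¹ = P ^ i) :
    ∃ g₀ c₀ : G, g₀ * b = b * g₀ ∧ c₀ * z = z * c₀ ∧ c₀ ∈ Subgroup.normalizer (Subgroup.zpowers b : Set G) ∧
      g₀ * z * g₀⁻¹ = c₀ * s * c₀⁻¹ := by
  haveI : Fact p.Prime := ⟨S.prime⟩
  obtain ⟨h, hz, hb⟩ := hswap
  obtain ⟨i, hi⟩ := (isOfFinOrder_of_finite b).mem_powers_iff_mem_zpowers.2 hb
  replace hi : b ^ i = h * b * h⁻¹ := hi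
  have hpi : ¬ p ∣ i := fun hd => by
    rw [← S.ord, orderOf_dvd_iff_pow_eq_one] at hd
    rw [hd] at hi
    have h1 := S.ord
    rw [conj_eq_one_iff.1 hi.symm, orderOf_one] at h1
    exact S.prime.one_lt.ne h1
  have hi0 : (i : ZMod p) ≠ 0 := fun h0 => hpi ((ZMod.natCast_eq_zero_iff i p).1 h0)
  have hj : ¬ p ∣ ((i : ZMod p)⁻¹).val := fun hd => by
    have := Nat.eq_zero_of_dvd_of_lt hd (ZMod.val_lt _)
    rw [ZMod.val_eq_zero, inv_eq_zero] at this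
    exact hi0 this
  obtain ⟨g, hg⟩ := hnorm _ hj
  obtain ⟨c, -, hcb⟩ := S.exists_lift hj hg
  have hm : ((i : ZMod p)⁻¹).val * i % p = 1 := by
    have h1 : ((((i : ZMod p)⁻¹).val * i : ℕ) : ZMod p) = ((1 : ℕ) : ZMod p) := by
      rw [Nat.cast_mul, ZMod.natCast_zmod_val, Nat.cast_one, inv_mul_cancel₀ hi0]
    rw [ZMod.natCast_eq_natCast_iff'] at h1
    rwa [Nat.mod_eq_of_lt S.prime.one_lt] at h1
  refine ⟨(c : G) * h, c, ?_, Subgroup.mem_centralizer_singleton_iff.1 c.2, S.norm_of hj hcb, ?_⟩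
  · refine mul_inv_eq_iff_eq_mul.1 ?_
    calc (c : G) * h * b * ((c : G) * h)⁻¹ = (c : G) * (h * b * h⁻¹) * (c : G)⁻¹ := by group
      _ = ((c : G) * b * (c : G)⁻¹) ^ i := by rw [← hi, conj_pow]
      _ = b := by rw [hcb, ← pow_mul, ← pow_mod_orderOf, S.ord, hm, pow_one]
  · rw [← hz]; group

/-- Every reached member is a conjugate under the centraliser of the subgroup. -/
theorem conj_reached (S : Setup z Q e ψ p P Bs Gi b s i₀)
    (hswap : ∃ h : G, h * z * h⁻¹ = s ∧ h * b * h⁻¹ ∈ Subgroup.zpowers b)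
    (hnorm : ∀ i : ℕ, ¬ p ∣ i → ∃ g : Co0, g * P * g⁻¹ = P ^ i) {x : G} (hx : x ∈ S.Q0) {v : leechLattice}
    (hv : Rep ψ v x) (hr : Reached P p i₀ v) : ∃ g : G, g * b = b * g ∧ g * z * g⁻¹ = x := by
  obtain ⟨g₀, c₀, hgb, hc₀z, hc₀n, hgz⟩ := S.exists_move_centre hswap hnorm
  obtain ⟨c, hcz, hcn, hcx⟩ := S.exists_carrier hx hv hr
  have hk : c * c₀⁻¹ ∈ Subgroup.normalizer (Subgroup.zpowers b : Set G) := mul_mem hcn (inv_mem hc₀n)
  have hkz : Commute (c * c₀⁻¹) z := (show Commute c z from hcz).mul_left (show Commute c₀ z from hc₀z).inv_left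
  generalize hκ : c * c₀⁻¹ = κ at hk hkz
  refine ⟨κ * g₀ * κ⁻¹, ?_, ?_⟩
  · have hm := (Subgroup.mem_normalizer_iff.1 (inv_mem hk) b).1 (Subgroup.mem_zpowers b)
    rw [inv_inv] at hm
    calc κ * g₀ * κ⁻¹ * b = κ * (g₀ * (κ⁻¹ * b * κ)) * κ⁻¹ := by group
      _ = κ * ((κ⁻¹ * b * κ) * g₀) * κ⁻¹ := by rw [comm_zpowers hgb hm]
      _ = b * (κ * g₀ * κ⁻¹) := by group
  · calc κ * g₀ * κ⁻¹ * z * (κ * g₀ * κ⁻¹)⁻¹ = κ * g₀ * (κ⁻¹ * z * κ) * g₀⁻¹ * κ⁻¹ := by group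
      _ = κ * (g₀ * z * g₀⁻¹) * κ⁻¹ := by rw [hkz.inv_left.eq, inv_mul_cancel_right]; group
      _ = x := by rw [hgz, ← hcx, ← hκ]; group

variable [hn : (NT b).Normal]

/-- A conjugate of the new centre comes from a conjugate of the centre. -/
theorem isConj_of (S : Setup z Q e ψ p P Bs Gi b s i₀) {x : S.Q0}
    (h : IsConj S.zb ((S.eR x : S.Dz) : CB b ⧸ NT b)) : IsConj z (x : G) := by
  obtain ⟨y, hy⟩ := isConj_iff.1 h
  obtain ⟨g, rfl⟩ := QuotientGroup.mk'_surjective (NT b) y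
  have e2 : ((S.eR x : S.Dz) : CB b ⧸ NT b) = QuotientGroup.mk' (NT b) (S.incl x : CB b) := rfl
  rw [e2, zb, ← map_inv, ← map_mul, ← map_mul, QuotientGroup.mk'_apply, QuotientGroup.mk'_apply, QuotientGroup.eq,
    Subgroup.mem_subgroupOf] at hy
  replace hy : ((g : G) * z * (g : G)⁻¹)⁻¹ * (x : G) ∈ Subgroup.zpowers b := hy
  set w := (g : G) * z * (g : G)⁻¹ with hw
  have hw2 : w * w = 1 := by
    rw [hw]
    calc (g : G) * z * (g : G)⁻¹ * ((g : G) * z * (g : G)⁻¹) = (g : G) * (z * z) * (g : G)⁻¹ := by group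
      _ = 1 := by rw [S.mt.z_sq]; group
  rw [inv_eq_of_mul_eq_one_right hw2] at hy
  have hc : Commute (w * x) (x : G) := (comm_zpowers (S.mem_Q0.1 x.2).2 hy).symm
  have e3 : w * x * (w * x) = (x : G) * x := by
    have e4 : (x : G) * w = w * x := by
      refine mul_right_cancel (b := (x : G)) ?_
      rw [mul_assoc]; exact hc.eq.symm
    calc w * x * (w * x) = w * (x * w) * x := by group
      _ = w * (w * x) * x := by rw [e4]
      _ = (w * w) * (x * x) := by group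
      _ = _ := by rw [hw2, one_mul]
  have h1 : (x : G) * x = 1 := S.inter_one (e3 ▸ mul_mem hy hy) (mul_mem x.2.1 x.2.1)
  have h2 := S.odd_one hy (e3.trans h1)
  have h3 : (x : G) = w := (eq_inv_of_mul_eq_one_right h2).trans (inv_eq_of_mul_eq_one_right hw2)
  exact isConj_iff.2 ⟨g, h3.symm⟩

theorem isConj_mk (S : Setup z Q e ψ p P Bs Gi b s i₀) {x : S.Q0} {g : G} (hg : g * b = b * g)
    (hgx : g * z * g⁻¹ = x) : IsConj S.zb ((S.eR x : S.Dz) : CB b ⧸ NT b) := by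
  refine isConj_iff.2 ⟨QuotientGroup.mk' (NT b) ⟨g, mem_CB.2 hg⟩, ?_⟩
  rw [zb, ← map_inv, ← map_mul, ← map_mul]
  show _ = QuotientGroup.mk' (NT b) (S.incl x : CB b)
  exact congrArg _ (Subtype.ext hgx)

/-- The conjugates of the new centre in the new extraspecial group. -/
theorem isConj_iff_reached (S : Setup z Q e ψ p P Bs Gi b s i₀)
    (hswap : ∃ h : G, h * z * h⁻¹ = s ∧ h * b * h⁻¹ ∈ Subgroup.zpowers b)
    (hnorm : ∀ i : ℕ, ¬ p ∣ i → ∃ g : Co0, g * P * g⁻¹ = P ^ i)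
    (hframes : ∀ v, Fixed P v → sqNorm (v : Vec) = 64 → Reached P p i₀ v) (x : S.Q0) :
    IsConj S.zb ((S.eR x : S.Dz) : CB b ⧸ NT b) ↔
      (x : G) = z ∨ ∃ v, Rep ψ v (x : G) ∧ sqNorm (v : Vec) = 64 := by
  obtain ⟨g₁, hg₁⟩ := isConj_iff.1 S.conj
  have hs : g₁ * z * g₁⁻¹ ∈ QG Q := hg₁ ▸ S.sQ
  have hs1 : g₁ * z * g₁⁻¹ ≠ z := hg₁ ▸ S.s_facts.2.2
  constructor
  · intro h
    by_cases hxz : (x : G) = z
    · exact Or.inl hxz
    · obtain ⟨v, hv, hr⟩ := (S.mt.conj_iff hs hs1 x.2.1).1 ⟨S.isConj_of h, hxz⟩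
      exact Or.inr ⟨v, hr, hv⟩
  · rintro (h | ⟨v, hv, hn64⟩)
    · exact S.isConj_mk (g := 1) (by rw [one_mul, mul_one]) (by rw [one_mul, inv_one, mul_one, h])
    · obtain ⟨g, hg, hgx⟩ := S.conj_reached hswap hnorm x.2 hv
        (hframes v ((S.fix_iff hv).1 (S.mem_Q0.1 x.2).2) hn64)
      exact S.isConj_mk hg hgx

theorem eR_z (S : Setup z Q e ψ p P Bs Gi b s i₀) :
    ((S.eR ⟨z, S.z_mem0⟩ : S.Dz) : CB b ⧸ NT b) = S.zb := rfl

/-- The new centre is not weakly closed. -/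
theorem not_weakly_closed (S : Setup z Q e ψ p P Bs Gi b s i₀)
    (hswap : ∃ h : G, h * z * h⁻¹ = s ∧ h * b * h⁻¹ ∈ Subgroup.zpowers b)
    (hnorm : ∀ i : ℕ, ¬ p ∣ i → ∃ g : Co0, g * P * g⁻¹ = P ^ i) :
    ∃ g : CB b ⧸ NT b, (∃ hq : g * S.zb * g⁻¹ ∈ S.Dz, (⟨g * S.zb * g⁻¹, hq⟩ : S.Dz) ∈ S.R) ∧
      g * S.zb * g⁻¹ ≠ S.zb := by
  obtain ⟨g₀, c₀, hgb, hc₀z, hc₀n, hgz⟩ := S.exists_move_centre hswap hnorm
  have hx : c₀ * s * c₀⁻¹ ∈ S.Q0 := S.mem_Q0.2 ⟨S.mt.ext.norm _ hc₀z _ S.sQ, by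
    have hm := (Subgroup.mem_normalizer_iff.1 (inv_mem hc₀n) b).1 (Subgroup.mem_zpowers b)
    rw [inv_inv] at hm
    calc c₀ * s * c₀⁻¹ * b = c₀ * (s * (c₀⁻¹ * b * c₀)) * c₀⁻¹ := by group
      _ = c₀ * ((c₀⁻¹ * b * c₀) * s) * c₀⁻¹ := by rw [comm_zpowers S.bs.symm hm]
      _ = b * (c₀ * s * c₀⁻¹) := by group⟩
  obtain ⟨y, hy⟩ := isConj_iff.1 (S.isConj_mk (x := ⟨_, hx⟩) hgb hgz)
  refine ⟨y, ⟨hy ▸ (S.eR ⟨_, hx⟩ : S.Dz).2, ?_⟩, ?_⟩
  · have e4 : (⟨y * S.zb * y⁻¹, hy ▸ (S.eR ⟨_, hx⟩ : S.Dz).2⟩ : S.Dz) = (S.eR ⟨_, hx⟩ : S.Dz) := Subtype.ext hy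
    rw [e4]
    exact (S.eR ⟨_, hx⟩).2
  · rw [hy, ← S.eR_z]
    intro h
    have h5 : c₀ * s * c₀⁻¹ = z := congrArg Subtype.val (S.eR.injective (Subtype.ext (Subtype.ext h)))
    refine S.s_facts.2.2 ?_
    calc s = c₀⁻¹ * (c₀ * s * c₀⁻¹) * c₀ := by group
      _ = c₀⁻¹ * z * c₀ := by rw [h5]
      _ = z := by rw [mul_assoc, ← hc₀z, inv_mul_cancel_left]

/-- The setting at the new centre. -/
theorem setting (S : Setup z Q e ψ p P Bs Gi b s i₀) {K : Type*} [Group K] {ρ : Cent P →* K} (hρ : Quot P Bs ρ)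
    (hswap : ∃ h : G, h * z * h⁻¹ = s ∧ h * b * h⁻¹ ∈ Subgroup.zpowers b)
    (hnorm : ∀ i : ℕ, ¬ p ∣ i → ∃ g : Co0, g * P * g⁻¹ = P ^ i) {w : ℕ} (hw : n = 2 * w) (hw1 : 1 ≤ w) :
    IsExtraspecialCentralizerSetting S.zb S.R w :=
  ⟨S.zb_order, S.gfit hρ, S.extraspecial_R (by omega), by rw [S.card_R, hw], S.not_weakly_closed hswap hnorm⟩

end Setup

end Cfsg.Agent.Spor.Leech.OddFix
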