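import Cfsg.Agent.Lib.Spor.Leech.OddFix.Prep

/-!
The joint centraliser of two centres over the largest Mathieu group, at the prime three.
-/

set_option autoImplicit false
set_option maxRecDepth 100000
set_option linter.style.haveILetI false

noncomputable section

namespace Cfsg.Agent.Spor.Leech.OddFix

open Cfsg

variable {G : Type*} [Group G] [Finite G] {z : G} {Q : Subgroup (Subgroup.centralizer ({z} : Set G))} [hQn : Q.Normal]
  {e : (Subgroup.centralizer ({z} : Set G)) ⧸ Q ≃* Cfsg.Spor.Co1} {ψ : leechLattice → Q ⧸ Subgroup.center Q}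
  {s : G}

/-- The joint centraliser. -/
abbrev JC (z s : G) : Subgroup G := Subgroup.centralizer ({z, s} : Set G)

omit [Finite G] in
theorem mem_JC {z s x : G} : x ∈ JC z s ↔ x * z = z * x ∧ x * s = s * x := by
  rw [Subgroup.mem_centralizer_iff]
  constructor
  · exact fun h => ⟨(h z (by simp)).symm, (h s (by simp)).symm⟩
  · rintro ⟨ha, hb⟩ y hy
    rcases hy with rfl | rfl
    exacts [ha.symm, hb.symm]

/-- An element of the joint centraliser in the centraliser of the first centre. -/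
def toC (x : JC z s) : Subgroup.centralizer ({z} : Set G) :=
  ⟨x, Subgroup.mem_centralizer_singleton_iff.2 (mem_JC.1 x.2).1⟩

theorem exists_stab_auto (h : MT z Q e ψ) (hr : Rep ψ (axis none) s) (x : JC z s) :
    ∃ k : crossStab, (QuotientGroup.mk (k : Co0) : Cfsg.Spor.Co1) = e (QuotientGroup.mk (toC x)) := by
  obtain ⟨k, hk⟩ := h.exists_auto (toC x)
  have h3 := h.rep_conj hk hr
  have e2 : ((toC x : Subgroup.centralizer ({z} : Set G)) : G) * s * ((toC x : _) : G)⁻¹ = s := by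
    show (x : G) * s * (x : G)⁻¹ = s
    rw [(mem_JC.1 x.2).2, mul_inv_cancel_right]
  rw [e2] at h3
  refine ⟨⟨k, ?_⟩, hk⟩
  rw [← stabC_eq_crossStab none, mem_stabC]
  exact h.rep_cls h3 hr

theorem perm_of_center {k : crossStab} (hk : (k : Co0) ∈ Subgroup.center Co0) : permHom k = 1 := by
  obtain ⟨g, hg, he⟩ := center_le_signs hk
  obtain rfl : g = k := Subtype.ext he
  exact hg

theorem perm_congr {k l : crossStab}
    (he : (QuotientGroup.mk (k : Co0) : Cfsg.Spor.Co1) = QuotientGroup.mk (l : Co0)) : permHom k = permHom l := by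
  have h1 : permHom (k⁻¹ * l) = 1 := perm_of_center (by
    rw [Subgroup.coe_mul, Subgroup.coe_inv]
    exact QuotientGroup.eq.1 he)
  rw [map_mul, map_inv, inv_mul_eq_one] at h1
  exact h1

/-- The permutation of an element of the joint centraliser. -/
def jperm (h : MT z Q e ψ) (hr : Rep ψ (axis none) s) : JC z s →* ↥M24 :=
  MonoidHom.mk' (fun x => ⟨permHom (exists_stab_auto h hr x).choose, (perm_spec _).1⟩) fun x y => Subtype.ext (by
    show permHom _ = permHom _ * permHom _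
    rw [← map_mul]
    refine perm_congr ((exists_stab_auto h hr (x * y)).choose_spec.trans (Eq.symm ?_))
    rw [Subgroup.coe_mul, QuotientGroup.mk_mul, (exists_stab_auto h hr x).choose_spec,
      (exists_stab_auto h hr y).choose_spec, ← map_mul, ← QuotientGroup.mk_mul]
    rfl)

theorem jperm_eq (h : MT z Q e ψ) (hr : Rep ψ (axis none) s) (x : JC z s) {σ : Equiv.Perm GolayPt} (hσ : σ ∈ M24)
    (he : (QuotientGroup.mk (mono hσ empty_code) : Cfsg.Spor.Co1) = e (QuotientGroup.mk (toC x))) :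
    jperm h hr x = ⟨σ, hσ⟩ :=
  Subtype.ext ((perm_congr (l := ⟨mono hσ empty_code, mono_mem hσ empty_code⟩)
    ((exists_stab_auto h hr x).choose_spec.trans he.symm)).trans (perm_mono hσ empty_code))

theorem jperm_surjective (h : MT z Q e ψ) (hr : Rep ψ (axis none) s) (hs : s ∈ QG Q) (hs1 : s ≠ 1) (hsz : s ≠ z) :
    Function.Surjective (jperm h hr) := by
  rintro ⟨σ, hσ⟩
  obtain ⟨c, hc⟩ := h.exists_elt (mono hσ empty_code)
  have hcz := Subgroup.mem_centralizer_singleton_iff.1 c.2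
  have h3 := h.rep_congr (h.rep_conj hc hr) (show cls (mono hσ empty_code • axis none) = cls (axis none) by
    rw [mono_axis, if_neg (Finset.notMem_empty _)]; exact cls_axes _ _)
  rcases h.rep_unique hr h3 with e' | e'
  · exact ⟨⟨c, mem_JC.2 ⟨hcz, mul_inv_eq_iff_eq_mul.1 e'⟩⟩, jperm_eq h hr _ hσ hc⟩
  · obtain ⟨q, hq, hqs⟩ := h.noncentral hs hs1 hsz
    have hq' := ((h.ext.conj_cases hs hq).resolve_left hqs).2
    obtain ⟨q₀, hq₀⟩ := mem_QG.1 hq
    subst hq₀
    refine ⟨⟨((q₀ : Subgroup.centralizer ({z} : Set G)) * c : Subgroup.centralizer ({z} : Set G)),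
      mem_JC.2 ⟨Subgroup.mem_centralizer_singleton_iff.1 ((q₀ : Subgroup.centralizer ({z} : Set G)) * c).2, ?_⟩⟩,
      jperm_eq h hr _ hσ ?_⟩
    · refine mul_inv_eq_iff_eq_mul.1 ?_
      rw [Subgroup.coe_mul]
      generalize ((q₀ : Subgroup.centralizer ({z} : Set G)) : G) = q at hq hq'
      calc q * (c : G) * s * (q * (c : G))⁻¹ = q * ((c : G) * s * (c : G)⁻¹) * q⁻¹ := by group
        _ = (q * s * q⁻¹) * (q * z * q⁻¹) := by rw [e']; group
        _ = s := by rw [hq', h.ext.central q hq, mul_inv_cancel_right, mul_assoc, h.z_sq, mul_one]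
    · show _ = e (QuotientGroup.mk ((q₀ : Subgroup.centralizer ({z} : Set G)) * c))
      rw [QuotientGroup.mk_mul, (QuotientGroup.eq_one_iff _).2 q₀.2, one_mul, hc]

theorem card_ker (h : MT z Q e ψ) (hr : Rep ψ (axis none) s) (hs : s ∈ QG Q) (hc : IsConj z s) (hs1 : s ≠ z) :
    ∃ k, Nat.card (jperm h hr).ker = 2 ^ k := by
  obtain ⟨k, hk⟩ := card_joint h hs hc hs1
  have hs0 : s ≠ 1 := by
    intro he
    obtain ⟨g, hg⟩ := isConj_iff.1 hc
    rw [he, conj_eq_one_iff] at hg
    exact h.z_ne hg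
  have h1 := (jperm h hr).ker.card_mul_index
  rw [Subgroup.index_ker, MonoidHom.range_eq_top.2 (jperm_surjective h hr hs hs0 hs1), Subgroup.card_top,
    Golay.card_M24, hk] at h1
  exact ⟨k, Nat.eq_of_mul_eq_mul_right (by norm_num) h1⟩

theorem card_three (h : MT z Q e ψ) (hs : s ∈ QG Q) (hc : IsConj z s) (hs1 : s ≠ z) :
    (Nat.card (JC z s)).factorization 3 = 3 := by
  obtain ⟨k, hk⟩ := card_joint h hs hc hs1
  rw [hk, Nat.factorization_mul (by positivity) (by norm_num), Finsupp.add_apply,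
    Nat.factorization_eq_zero_of_not_dvd (fun hd => by
      have := (Nat.prime_dvd_prime_iff_eq Nat.prime_three Nat.prime_two).1 (Nat.prime_three.dvd_of_dvd_pow hd)
      omega), zero_add, Nat.factorization_def _ Nat.prime_three]
  haveI : Fact (Nat.Prime 3) := ⟨Nat.prime_three⟩
  rw [show (244823040 : ℕ) = 3 * (3 * (3 * 9067520)) by norm_num, padicValNat.mul (by norm_num) (by norm_num),
    padicValNat.mul (by norm_num) (by norm_num), padicValNat.mul (by norm_num) (by norm_num), padicValNat_self,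
    padicValNat.eq_zero_of_not_dvd (by norm_num)]

/-- The element lies centrally in a subgroup of order 27 of the joint centraliser. -/
def Central (z s b : G) : Prop :=
  ∃ P : Subgroup G, P ≤ JC z s ∧ Nat.card P = 27 ∧ b ∈ P ∧ ∀ x ∈ P, x * b = b * x

/-- Being central in a Sylow subgroup is the same. -/
theorem central_iff_sylow (h3 : (Nat.card (JC z s)).factorization 3 = 3) {b : G} (hb : b ∈ JC z s) :
    Central z s b ↔ ∃ P : Sylow 3 ↥(JC z s), (Subgroup.zpowers b).subgroupOf (JC z s) ≤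
      (Subgroup.center ↥(P : Subgroup ↥(JC z s))).map (P : Subgroup ↥(JC z s)).subtype := by
  haveI : Fact (Nat.Prime 3) := ⟨Nat.prime_three⟩
  constructor
  · rintro ⟨P, hP, hcard, hbP, hcomm⟩
    let P' : Sylow 3 ↥(JC z s) := Sylow.ofCard (P.subgroupOf (JC z s))
      (by rw [Nat.card_congr (Subgroup.subgroupOfEquivOfLe hP).toEquiv, hcard, h3]; norm_num)
    refine ⟨P', fun y hy => ?_⟩
    obtain ⟨j, hj⟩ := Subgroup.mem_zpowers_iff.1 (Subgroup.mem_subgroupOf.1 hy)
    have hyP : y ∈ (P' : Subgroup ↥(JC z s)) := Subgroup.mem_subgroupOf.2 (hj ▸ zpow_mem hbP j)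
    refine ⟨⟨y, hyP⟩, Subgroup.mem_center_iff.2 fun g => Subtype.ext (Subtype.ext ?_), rfl⟩
    show ((g : ↥(JC z s)) : G) * (y : G) = (y : G) * ((g : ↥(JC z s)) : G)
    rw [← hj]
    exact ((show Commute _ b from hcomm _ (Subgroup.mem_subgroupOf.1 g.2)).zpow_right j).eq
  · rintro ⟨P, hP⟩
    refine ⟨(P : Subgroup ↥(JC z s)).map (JC z s).subtype, Subgroup.map_subtype_le _, ?_, ?_⟩
    · rw [Subgroup.card_map_of_injective (Subgroup.subtype_injective _), Sylow.card_eq_multiplicity, h3]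
      norm_num
    obtain ⟨c, hc, he⟩ := hP (show (⟨b, hb⟩ : JC z s) ∈ _ from Subgroup.mem_subgroupOf.2 (Subgroup.mem_zpowers b))
    refine ⟨⟨⟨b, hb⟩, he ▸ c.2, rfl⟩, ?_⟩
    rintro _ ⟨x, hx, rfl⟩
    have h5 := congrArg (fun y : ↥(P : Subgroup ↥(JC z s)) => ((y : JC z s) : G)) (Subgroup.mem_center_iff.1 hc ⟨x, hx⟩)
    have h6 : ((c : JC z s) : G) = b := congrArg Subtype.val he
    simp only [Subgroup.coe_mul] at h5
    rwa [h6] at h5

/-- A subgroup of order 27 centralising the permutation gives centrality. -/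
theorem central_of_perm (h : MT z Q e ψ) (hr : Rep ψ (axis none) s) (hs : s ∈ QG Q) (hc : IsConj z s) (hs1 : s ≠ z)
    (b : JC z s) (hb : (b : G) ^ 3 = 1) (P : Subgroup ↥M24) (hP : Nat.card P = 27) (hbP : jperm h hr b ∈ P)
    (hcomm : ∀ x ∈ P, x * jperm h hr b = jperm h hr b * x) : Central z s (b : G) := by
  haveI : Fact (Nat.Prime 3) := ⟨Nat.prime_three⟩
  have hs0 : s ≠ 1 := by
    intro he
    obtain ⟨g, hg⟩ := isConj_iff.1 hc
    rw [he, conj_eq_one_iff] at hg
    exact h.z_ne hg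
  obtain ⟨k, hk⟩ := card_ker h hr hs hc hs1
  let T : Subgroup ↥(JC z s) := P.comap (jperm h hr)
  have hT : Nat.card T = 2 ^ k * 27 := by
    rw [card_eq_ker_mul_map (jperm h hr) T, inf_eq_right.2 (Subgroup.ker_le_comap _ _),
      Subgroup.map_comap_eq_self_of_surjective (jperm_surjective h hr hs hs0 hs1), hk, hP]
  have hbT : b ∈ T := hbP
  have hz : IsPGroup 3 (Subgroup.zpowers (⟨b, hbT⟩ : T)) := fun x => ⟨1, by
    obtain ⟨j, hj⟩ := Subgroup.mem_zpowers_iff.1 x.2
    refine Subtype.ext ?_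
    rw [SubgroupClass.coe_pow, ← hj, pow_one, ← zpow_natCast, ← zpow_mul, mul_comm, zpow_mul, zpow_natCast,
      show (⟨b, hbT⟩ : T) ^ 3 = 1 from Subtype.ext (Subtype.ext hb), one_zpow]
    rfl⟩
  obtain ⟨S, hS⟩ := hz.exists_le_sylow
  have hcardS : Nat.card S = 27 := by
    rw [Sylow.card_eq_multiplicity, hT, Nat.factorization_mul (by positivity) (by norm_num), Finsupp.add_apply,
      Nat.factorization_eq_zero_of_not_dvd (fun hd => by
        have := (Nat.prime_dvd_prime_iff_eq Nat.prime_three Nat.prime_two).1 (Nat.prime_three.dvd_of_dvd_pow hd)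
        omega), zero_add, show (27 : ℕ) = 3 ^ 3 by norm_num, Nat.prime_three.factorization_pow, Finsupp.single_eq_same]
  have hbS : (⟨b, hbT⟩ : T) ∈ S := hS (Subgroup.mem_zpowers _)
  refine ⟨((S : Subgroup T).map T.subtype).map (JC z s).subtype, Subgroup.map_subtype_le _, ?_,
    ⟨b, ⟨_, hbS, rfl⟩, rfl⟩, ?_⟩
  · rw [Subgroup.card_map_of_injective (Subgroup.subtype_injective _),
      Subgroup.card_map_of_injective (Subgroup.subtype_injective _), hcardS]
  rintro _ ⟨_, ⟨x, hx, rfl⟩, rfl⟩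
  have hker : (x : JC z s) * b * (x : JC z s)⁻¹ * b⁻¹ ∈ (jperm h hr).ker := by
    rw [MonoidHom.mem_ker, map_mul, map_mul, map_mul, map_inv, map_inv, hcomm _ x.2, mul_inv_cancel_right,
      mul_inv_cancel]
  have hmem : x * ⟨b, hbT⟩ * x⁻¹ * (⟨b, hbT⟩ : T)⁻¹ ∈ (S : Subgroup T) :=
    mul_mem (mul_mem (mul_mem hx hbS) (inv_mem hx)) (inv_mem hbS)
  have h1 : (x : JC z s) * b * (x : JC z s)⁻¹ * b⁻¹ = 1 := by
    have d1 := Subgroup.orderOf_dvd_natCard _ hker
    rw [hk] at d1
    have d2 := Subgroup.orderOf_dvd_natCard _ hmem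
    rw [hcardS, ← Subgroup.orderOf_coe] at d2
    have d3 := Nat.dvd_gcd d1 d2
    rw [(show Nat.Coprime (2 ^ k) 27 from Nat.Coprime.pow_left k (by norm_num)).gcd_eq_one] at d3
    exact orderOf_eq_one_iff.1 (Nat.dvd_one.1 d3)
  rw [mul_inv_eq_one, mul_inv_eq_iff_eq_mul] at h1
  exact congrArg Subtype.val h1

/-- Elements of order three with conjugate permutations are conjugate in the joint centraliser. -/
theorem conj_of_perm (h : MT z Q e ψ) (hr : Rep ψ (axis none) s) (hs : s ∈ QG Q) (hc : IsConj z s) (hs1 : s ≠ z)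
    (b b' : JC z s) (hb : orderOf b = 3) (hb' : orderOf b' = 3)
    (he : ∃ π : ↥M24, π * jperm h hr b' * π⁻¹ = jperm h hr b) : ∃ u : JC z s, u * b' * u⁻¹ = b := by
  have hs0 : s ≠ 1 := by
    intro he
    obtain ⟨g, hg⟩ := isConj_iff.1 hc
    rw [he, conj_eq_one_iff] at hg
    exact h.z_ne hg
  obtain ⟨π, hπ⟩ := he
  obtain ⟨c, rfl⟩ := jperm_surjective h hr hs hs0 hs1 π
  obtain ⟨k, hk⟩ := card_ker h hr hs hc hs1
  have hnd : ¬ 3 ∣ Nat.card (jperm h hr).ker := fun hd => by
    rw [hk] at hd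
    have := (Nat.prime_dvd_prime_iff_eq Nat.prime_three Nat.prime_two).1 (Nat.prime_three.dvd_of_dvd_pow hd)
    omega
  obtain ⟨u, -, hu⟩ := fix_conj (jperm h hr).ker Nat.prime_three
    (a := c * b' * c⁻¹) (b := b) (by rw [← MulAut.conj_apply, MulEquiv.orderOf_eq, hb']) hb
    hnd
    (QuotientGroup.eq.2 (by
      rw [MonoidHom.mem_ker, map_mul, map_inv, map_mul, map_mul, map_inv, hπ, inv_mul_cancel]))
  exact ⟨u * c, by rw [← hu]; group⟩

end Cfsg.Agent.Spor.Leech.OddFix

end
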