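import Cfsg.Agent.Lib.Spor.Leech.OddFix.Fusion

/-!
Bringing an element of odd prime order fixing two centres to a coordinate permutation fixing the standard cross.
-/

set_option autoImplicit false
set_option maxRecDepth 100000
set_option linter.style.haveILetI false

noncomputable section

namespace Cfsg.Agent.Spor.Leech.OddFix

open Cfsg

variable {G : Type*} [Group G] {z : G} {Q : Subgroup (Subgroup.centralizer ({z} : Set G))} [hQn : Q.Normal]
  {e : (Subgroup.centralizer ({z} : Set G)) ⧸ Q ≃* Cfsg.Spor.Co1} {ψ : leechLattice → Q ⧸ Subgroup.center Q}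

/-- The identification followed by conjugation. -/
def twE (e : (Subgroup.centralizer ({z} : Set G)) ⧸ Q ≃* Cfsg.Spor.Co1) (τ : Co0) :
    (Subgroup.centralizer ({z} : Set G)) ⧸ Q ≃* Cfsg.Spor.Co1 :=
  e.trans (MulAut.conj (QuotientGroup.mk τ : Cfsg.Spor.Co1))

/-- The lattice map preceded by an automorphism. -/
def twPsi (ψ : leechLattice → Q ⧸ Subgroup.center Q) (τ : Co0) : leechLattice → Q ⧸ Subgroup.center Q :=
  fun v => ψ (τ⁻¹ • v)

theorem twE_apply (τ : Co0) (x : (Subgroup.centralizer ({z} : Set G)) ⧸ Q) :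
    twE e τ x = QuotientGroup.mk τ * e x * (QuotientGroup.mk τ)⁻¹ := rfl

theorem twist (h : MT z Q e ψ) (τ : Co0) : MT z Q (twE e τ) (twPsi ψ τ) := by
  refine ⟨h.ord, h.extra, h.card, fun v w => ?_, fun y => ?_, fun v => ?_, fun c g hg v q hq => ?_⟩
  · show ψ (τ⁻¹ • (v + w)) = _
    rw [co_add]; exact h.psi_add _ _
  · obtain ⟨v, rfl⟩ := h.iso.2.1 y
    exact ⟨τ • v, by show ψ (τ⁻¹ • τ • v) = _; rw [inv_smul_smul]⟩
  · show ψ (τ⁻¹ • v) = 1 ↔ _
    rw [h.iso.2.2.1]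
    constructor
    · rintro ⟨w, hw⟩
      exact ⟨τ • w, by rw [← co_add, ← hw, smul_inv_smul]⟩
    · rintro ⟨w, hw⟩
      exact ⟨τ⁻¹ • w, by rw [hw, co_add]⟩
  · have hg' : (QuotientGroup.mk (τ⁻¹ * g * τ) : Cfsg.Spor.Co1) = e (QuotientGroup.mk c) := by
      rw [QuotientGroup.mk_mul, QuotientGroup.mk_mul, hg, twE_apply, QuotientGroup.mk_inv]
      group
    have h1 := h.iso.2.2.2 c (τ⁻¹ * g * τ) hg' (τ⁻¹ • v) q hq
    rw [mul_smul, mul_smul, smul_inv_smul] at h1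
    exact h1

theorem twist_rep {τ : Co0} {v : leechLattice} {x : G} (hr : Rep ψ v x) : Rep (twPsi ψ τ) (τ • v) x := by
  obtain ⟨q, hq, e'⟩ := hr
  exact ⟨q, hq, by show ψ (τ⁻¹ • τ • v) = _; rw [inv_smul_smul]; exact e'⟩

theorem cls_axes (i j : GolayPt) : cls (axis i) = cls (axis j) := Baby.cls_axis i j

variable [Finite G]

/-- An element of odd prime order fixing the two centres is a coordinate permutation for a suitable lattice map. -/
theorem exists_frame (h : MT z Q e ψ) {s : G} (hs : s ∈ QG Q) (hc : IsConj z s) (hs1 : s ≠ z) {b : G} {p : ℕ}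
    (hp : p.Prime) (hp2 : p % 2 = 1) (hb : orderOf b = p) (hbz : b * z = z * b) (hbs : b * s = s * b) :
    ∃ (e' : (Subgroup.centralizer ({z} : Set G)) ⧸ Q ≃* Cfsg.Spor.Co1) (ψ' : leechLattice → Q ⧸ Subgroup.center Q)
      (σ : Equiv.Perm GolayPt) (hσ : σ ∈ M24), orderOf σ = p ∧ MT z Q e' ψ' ∧ Rep ψ' (axis none) s ∧
        (QuotientGroup.mk (mono hσ empty_code) : Cfsg.Spor.Co1) =
          e' (QuotientGroup.mk ⟨b, Subgroup.mem_centralizer_singleton_iff.2 hbz⟩) := by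
  haveI : Fact p.Prime := ⟨hp⟩
  haveI : Finite crossStab := Nat.finite_of_card_ne_zero (by rw [card_crossStab]; norm_num)
  set bC : Subgroup.centralizer ({z} : Set G) := ⟨b, Subgroup.mem_centralizer_singleton_iff.2 hbz⟩ with hbC
  obtain ⟨g, rfl⟩ := isConj_iff.1 hc
  obtain ⟨v, hv, hr⟩ := (h.conj_iff hs hs1 hs).1 ⟨hc, hs1⟩
  obtain ⟨t, ht⟩ := exists_to_axis v hv
  have h1 := twist h t
  have hr1 : Rep (twPsi ψ t) (axis none) (g * z * g⁻¹) :=
    h1.rep_congr (twist_rep hr) (by rw [ht]; exact cls_axes _ _)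
  generalize twE e t = e₁ at h1
  generalize twPsi ψ t = ψ₁ at h1 hr1
  have hnot : (QuotientGroup.mk bC : (Subgroup.centralizer ({z} : Set G)) ⧸ Q) ≠ 1 := fun e' => by
    rw [QuotientGroup.eq_one_iff] at e'
    have h2 := Subgroup.orderOf_dvd_natCard Q e'
    rw [← Subgroup.orderOf_coe, h.card] at h2
    have h3 := (Nat.prime_dvd_prime_iff_eq hp Nat.prime_two).1 (hp.dvd_of_dvd_pow (hb ▸ h2))
    omega
  -- a lift of the same order
  obtain ⟨k₀, hk₀⟩ := h1.exists_auto bC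
  have hk0p : k₀ ^ p ∈ Subgroup.center Co0 := by
    rw [← QuotientGroup.eq_one_iff, QuotientGroup.mk_pow, hk₀, ← map_pow, MulEquiv.map_eq_one_iff,
      ← QuotientGroup.mk_pow, show bC ^ p = 1 from Subtype.ext (by
        rw [SubgroupClass.coe_pow, OneMemClass.coe_one, ← hb, pow_orderOf_eq_one]), QuotientGroup.mk_one]
  obtain ⟨k, hk, hkp⟩ : ∃ k : Co0, (QuotientGroup.mk k : Cfsg.Spor.Co1) = e₁ (QuotientGroup.mk bC) ∧ k ^ p = 1 := by
    rcases mem_center_iff.1 hk0p with e' | e'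
    · exact ⟨k₀, hk₀, e'⟩
    · refine ⟨negCo * k₀, ?_, ?_⟩
      · rw [QuotientGroup.mk_mul, (QuotientGroup.eq_one_iff negCo).2 (mem_center_iff.2 (Or.inr rfl)), one_mul, hk₀]
      · obtain ⟨m, hm⟩ : ∃ m, p = 2 * m + 1 := ⟨p / 2, by omega⟩
        rw [(show Commute negCo k₀ from (negCo_comm k₀).symm).mul_pow, e', hm, pow_succ, pow_mul, pow_two negCo,
          negCo_sq, one_pow, one_mul, negCo_sq]
  have hkS : k ∈ crossStab := by
    rw [← stabC_eq_crossStab none, mem_stabC]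
    have h3 := h1.rep_conj hk hr1
    have e2 : (bC : G) * (g * z * g⁻¹) * (bC : G)⁻¹ = g * z * g⁻¹ := by
      show b * _ * b⁻¹ = _
      rw [hbs, mul_inv_cancel_right]
    rw [e2] at h3
    exact h1.rep_cls h3 hr1
  set σ := permHom ⟨k, hkS⟩ with hσdef
  have hσ : σ ∈ M24 := (perm_spec ⟨k, hkS⟩).1
  have hσp : σ ^ p = 1 := by
    rw [hσdef, ← map_pow, show (⟨k, hkS⟩ : crossStab) ^ p = 1 from Subtype.ext (by
      rw [SubgroupClass.coe_pow, OneMemClass.coe_one]; exact hkp), map_one]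
  have hk1 : k ≠ 1 := fun e' => hnot (by
    rw [e', QuotientGroup.mk_one, eq_comm, MulEquiv.map_eq_one_iff] at hk; exact hk)
  have hker : Nat.card permHom.ker = 4096 := by
    rw [← card_signs, signs, Subgroup.card_map_of_injective (Subgroup.subtype_injective _)]
  have hndvd : ¬ p ∣ Nat.card permHom.ker := by
    rw [hker, show (4096 : ℕ) = 2 ^ 12 by norm_num]
    exact fun h4 => by have := (Nat.prime_dvd_prime_iff_eq hp Nat.prime_two).1 (hp.dvd_of_dvd_pow h4); omega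
  have hok : orderOf (⟨k, hkS⟩ : crossStab) = p :=
    orderOf_eq_prime (Subtype.ext (by rw [SubgroupClass.coe_pow, OneMemClass.coe_one]; exact hkp))
      fun e' => hk1 (congrArg Subtype.val e')
  have hσ1 : σ ≠ 1 := fun e' => hndvd (hok ▸ Subgroup.orderOf_dvd_natCard _ (MonoidHom.mem_ker.2 e'))
  have hoσ : orderOf σ = p := orderOf_eq_prime hσp hσ1
  have hom : orderOf (⟨mono hσ empty_code, mono_mem hσ empty_code⟩ : crossStab) = p := by
    refine orderOf_eq_prime (Subtype.ext ?_) fun e' => hσ1 ?_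
    · rw [SubgroupClass.coe_pow, OneMemClass.coe_one]
      show mono hσ empty_code ^ p = 1
      rw [mono_pow]
      exact ext_axis fun i => by
        rw [mono_axis, if_neg (Finset.notMem_empty _), hσp, Equiv.Perm.one_apply, one_smul]
    · rw [← perm_mono hσ empty_code, e', map_one]
  obtain ⟨u, -, hu⟩ := fix_conj permHom.ker hp hok hom hndvd (QuotientGroup.eq.2 (by
    rw [MonoidHom.mem_ker, map_mul, map_inv, perm_mono, inv_mul_cancel]))
  refine ⟨twE e₁ (u : Co0), twPsi ψ₁ (u : Co0), σ, hσ, hoσ, twist h1 _, ?_, ?_⟩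
  · have h2 : cls ((u : Co0) • axis none) = cls (axis none) := by
      have : (u : Co0) ∈ stabC (axis none) := (stabC_eq_crossStab none).symm ▸ u.2
      exact this
    exact (twist h1 _).rep_congr (twist_rep hr1) h2
  · have e3 := congrArg Subtype.val hu
    simp only [Subgroup.coe_mul, Subgroup.coe_inv] at e3
    rw [twE_apply, ← hk, ← QuotientGroup.mk_inv, ← QuotientGroup.mk_mul, ← QuotientGroup.mk_mul, e3]

/-- Conjugating the permutation. -/
theorem conj_frame (h : MT z Q e ψ) {s : G} (hr : Rep ψ (axis none) s) {b : G} {p : ℕ} (hp : p.Prime)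
    (hb : orderOf b = p) (hbz : b * z = z * b) {σ : Equiv.Perm GolayPt} (hσ : σ ∈ M24)
    (himg : (QuotientGroup.mk (mono hσ empty_code) : Cfsg.Spor.Co1) =
      e (QuotientGroup.mk ⟨b, Subgroup.mem_centralizer_singleton_iff.2 hbz⟩))
    {σ' : Equiv.Perm GolayPt} (hσ' : σ' ∈ M24) {π : Equiv.Perm GolayPt} (hπ : π ∈ M24) {j : ℕ}
    (hσo : orderOf σ = p) (hσ'o : orderOf σ' = p) (hconj : π * σ * π⁻¹ = σ' ^ j) :
    ∃ (e' : (Subgroup.centralizer ({z} : Set G)) ⧸ Q ≃* Cfsg.Spor.Co1) (ψ' : leechLattice → Q ⧸ Subgroup.center Q)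
      (b' : G) (hb' : b' * z = z * b'), Subgroup.zpowers b' = Subgroup.zpowers b ∧ orderOf b' = p ∧
        MT z Q e' ψ' ∧ Rep ψ' (axis none) s ∧
        (QuotientGroup.mk (mono hσ' empty_code) : Cfsg.Spor.Co1) =
          e' (QuotientGroup.mk ⟨b', Subgroup.mem_centralizer_singleton_iff.2 hb'⟩) := by
  haveI : Fact p.Prime := ⟨hp⟩
  set τ := mono hπ empty_code with hτ
  set bC : Subgroup.centralizer ({z} : Set G) := ⟨b, Subgroup.mem_centralizer_singleton_iff.2 hbz⟩ with hbC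
  have hj : ¬ p ∣ j := fun hd => by
    rw [← hσ'o, orderOf_dvd_iff_pow_eq_one] at hd
    rw [hd, conj_eq_one_iff] at hconj
    rw [hconj, orderOf_one] at hσo
    exact hp.one_lt.ne hσo
  have hj0 : (j : ZMod p) ≠ 0 := fun h0 => hj ((ZMod.natCast_eq_zero_iff j p).1 h0)
  set m := ((j : ZMod p)⁻¹).val with hm
  have hm1 : j * m % p = 1 := by
    have h1 : ((j * m : ℕ) : ZMod p) = ((1 : ℕ) : ZMod p) := by
      rw [Nat.cast_mul, hm, ZMod.natCast_zmod_val, Nat.cast_one, mul_inv_cancel₀ hj0]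
    rw [ZMod.natCast_eq_natCast_iff'] at h1
    rwa [Nat.mod_eq_of_lt hp.one_lt] at h1
  have hmp : ¬ p ∣ m := fun hd => by
    have h2 : j * m % p = 0 := Nat.mod_eq_zero_of_dvd (hd.mul_left j)
    omega
  have hb'z : b ^ m * z = z * b ^ m := ((show Commute b z from hbz).pow_left m).eq
  have hgen : Subgroup.zpowers (b ^ m) = Subgroup.zpowers b := by
    refine Subgroup.eq_of_le_of_card_ge (Subgroup.zpowers_le.2 (pow_mem (Subgroup.mem_zpowers b) m)) ?_
    rw [Nat.card_zpowers, Nat.card_zpowers,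
      Nat.Coprime.orderOf_pow (by rw [hb]; exact hp.coprime_iff_not_dvd.2 hmp)]
  refine ⟨twE e τ, twPsi ψ τ, b ^ m, hb'z, hgen,
    by rw [Nat.Coprime.orderOf_pow (by rw [hb]; exact hp.coprime_iff_not_dvd.2 hmp), hb], twist h τ, ?_, ?_⟩
  · have h2 : cls (τ • axis none) = cls (axis none) := by
      rw [hτ, mono_axis, if_neg (Finset.notMem_empty _)]; exact cls_axes _ _
    exact (twist h τ).rep_congr (twist_rep hr) h2
  · have e1 : (⟨b ^ m, Subgroup.mem_centralizer_singleton_iff.2 hb'z⟩ : Subgroup.centralizer ({z} : Set G)) =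
        bC ^ m := Subtype.ext (by rw [SubgroupClass.coe_pow])
    rw [e1, twE_apply, QuotientGroup.mk_pow Q bC m, map_pow, ← himg, ← QuotientGroup.mk_pow,
      ← QuotientGroup.mk_inv, ← QuotientGroup.mk_mul, ← QuotientGroup.mk_mul]
    congr 1
    refine ext_axis fun i => ?_
    rw [← conj_pow, mul_assoc τ, show τ⁻¹ = mono (inv_mem hπ) empty_code from inv_eq_of_mul_eq_one_right (by
      rw [hτ, mono_empty_mul]
      exact ext_axis fun i => by
        rw [mono_axis, if_neg (Finset.notMem_empty _), mul_inv_cancel, Equiv.Perm.one_apply, one_smul]),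
      hτ, mono_empty_mul, mono_empty_mul, mono_pow, mono_axis, mono_axis, if_neg (Finset.notMem_empty _),
      if_neg (Finset.notMem_empty _), ← mul_assoc, hconj, ← pow_mul, ← pow_mod_orderOf, hσ'o, hm1, pow_one]

/-- An element exchanging the two centres that normalises a Sylow subgroup of their joint centraliser. -/
theorem exists_swap (h : MT z Q e ψ) {s : G} (hs : s ∈ QG Q) (hc : IsConj z s) (hs1 : s ≠ z) (B : Subgroup G)
    {p : ℕ} [Fact p.Prime] (hB : B ≤ Subgroup.centralizer ({z, s} : Set G))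
    (hBp : Nat.card B = p ^ (Nat.card ↥(Subgroup.centralizer ({z, s} : Set G))).factorization p) :
    ∃ k : G, k * z * k⁻¹ = s ∧ ∀ x ∈ B, k * x * k⁻¹ ∈ B := by
  obtain ⟨g, rfl⟩ := isConj_iff.1 hc
  have hzP := h.z_mem_PG hs
  obtain ⟨q, hq, eq'⟩ := hzP
  have eq2 : g⁻¹ * z * g = q := by
    rw [← eq']; show g⁻¹ * (g * q * g⁻¹) * g = q; group
  have hq1 : g⁻¹ * z * g ≠ z := fun e' => hs1 (by
    calc g * z * g⁻¹ = g * (g⁻¹ * z * g) * g⁻¹ := by rw [e']
      _ = z := by group)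
  obtain ⟨c, hcz, hce⟩ := h.conj_centres (eq2 ▸ hq : g⁻¹ * z * g ∈ QG Q) hs
    (isConj_iff.2 ⟨g⁻¹, by rw [inv_inv]⟩) hc hq1 hs1
  have hcz' := Subgroup.mem_centralizer_singleton_iff.1 hcz
  set k₀ := g * c⁻¹ with hk₀
  have e1 : k₀ * z * k₀⁻¹ = g * z * g⁻¹ := by
    calc k₀ * z * k₀⁻¹ = g * (c⁻¹ * (z * c)) * g⁻¹ := by rw [hk₀]; group
      _ = g * z * g⁻¹ := by rw [← hcz', inv_mul_cancel_left]
  have e2 : k₀ * (g * z * g⁻¹) * k₀⁻¹ = z := by
    calc k₀ * (g * z * g⁻¹) * k₀⁻¹ = g * (c⁻¹ * (g * z * g⁻¹) * c) * g⁻¹ := by rw [hk₀]; group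
      _ = g * (g⁻¹ * z * g) * g⁻¹ := by
          congr 2
          calc c⁻¹ * (g * z * g⁻¹) * c = c⁻¹ * (c * (g⁻¹ * z * g) * c⁻¹) * c := by rw [hce]
            _ = g⁻¹ * z * g := by group
      _ = z := by group
  set L := Subgroup.centralizer ({z, g * z * g⁻¹} : Set G) with hL
  have hmemL : ∀ {x : G}, x ∈ L ↔ x * z = z * x ∧ x * (g * z * g⁻¹) = g * z * g⁻¹ * x := fun {x} => by
    rw [hL, Subgroup.mem_centralizer_iff]
    constructor
    · exact fun hx => ⟨(hx z (by simp)).symm, (hx _ (by simp)).symm⟩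
    · rintro ⟨ha, hb⟩ y hy
      rcases hy with rfl | rfl
      exacts [ha.symm, hb.symm]
  have hle : B.map (MulAut.conj k₀).toMonoidHom ≤ L := by
    rintro _ ⟨x, hx, rfl⟩
    obtain ⟨ha, hb⟩ := hmemL.1 (hB hx)
    show k₀ * x * k₀⁻¹ ∈ L
    refine hmemL.2 ⟨?_, ?_⟩
    · calc k₀ * x * k₀⁻¹ * z = k₀ * x * k₀⁻¹ * (k₀ * (g * z * g⁻¹) * k₀⁻¹) := by rw [e2]
        _ = k₀ * (x * (g * z * g⁻¹)) * k₀⁻¹ := by group
        _ = k₀ * (g * z * g⁻¹) * k₀⁻¹ * (k₀ * x * k₀⁻¹) := by rw [hb]; group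
        _ = z * (k₀ * x * k₀⁻¹) := by rw [e2]
    · calc k₀ * x * k₀⁻¹ * (g * z * g⁻¹) = k₀ * x * k₀⁻¹ * (k₀ * z * k₀⁻¹) := by rw [e1]
        _ = k₀ * (x * z) * k₀⁻¹ := by group
        _ = k₀ * z * k₀⁻¹ * (k₀ * x * k₀⁻¹) := by rw [ha]; group
        _ = g * z * g⁻¹ * (k₀ * x * k₀⁻¹) := by rw [e1]
  let P₁ : Sylow p L := Sylow.ofCard (B.subgroupOf L)
    (by rw [Nat.card_congr (Subgroup.subgroupOfEquivOfLe hB).toEquiv, hBp])
  let P₂ : Sylow p L := Sylow.ofCard ((B.map (MulAut.conj k₀).toMonoidHom).subgroupOf L)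
    (by rw [Nat.card_congr (Subgroup.subgroupOfEquivOfLe hle).toEquiv,
      Subgroup.card_map_of_injective (MulAut.conj k₀).injective, hBp])
  obtain ⟨l, hl⟩ := MulAction.exists_smul_eq L P₂ P₁
  obtain ⟨hl1, hl2⟩ := hmemL.1 l.2
  refine ⟨(l : G) * k₀, ?_, fun x hx => ?_⟩
  · calc (l : G) * k₀ * z * ((l : G) * k₀)⁻¹ = (l : G) * (k₀ * z * k₀⁻¹) * (l : G)⁻¹ := by group
      _ = g * z * g⁻¹ := by rw [e1, hl2, mul_inv_cancel_right]
  · have hm : k₀ * x * k₀⁻¹ ∈ L := hle ⟨x, hx, rfl⟩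
    have h1 : l * ⟨_, hm⟩ * l⁻¹ ∈ ((l • P₂ : Sylow p L) : Subgroup L) :=
      ⟨⟨_, hm⟩, Subgroup.mem_subgroupOf.2 ⟨x, hx, rfl⟩, rfl⟩
    rw [hl] at h1
    have h2 : (l : G) * (k₀ * x * k₀⁻¹) * (l : G)⁻¹ ∈ B := h1
    convert h2 using 1
    group

/-- The order of the joint centraliser, up to a power of two. -/
theorem card_joint (h : MT z Q e ψ) {s : G} (hs : s ∈ QG Q) (hc : IsConj z s) (hs1 : s ≠ z) :
    ∃ k : ℕ, Nat.card ↥(Subgroup.centralizer ({z, s} : Set G)) = 2 ^ k * 244823040 := by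
  obtain ⟨g, rfl⟩ := isConj_iff.1 hc
  obtain ⟨v, t, -, -, -, -, -, hX⟩ := h.pair hs hs1
  have h1 : 2 * Nat.card (imageX Q (g * z * g⁻¹)) = 4096 * 244823040 := by
    rw [← card_crossStab, ← hX]
    exact (card_lift e _).symm.trans (Subgroup.card_map_of_injective (MulAut.conj t).injective).symm
  set L' := (Subgroup.centralizer ({z} : Set G) ⊓ Subgroup.centralizer ({g * z * g⁻¹} : Set G)).subgroupOf
    (Subgroup.centralizer ({z} : Set G)) with hL'
  have h2 : Nat.card L' = Nat.card ↥(Subgroup.centralizer ({z, g * z * g⁻¹} : Set G)) := by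
    rw [hL', Nat.card_congr (Subgroup.subgroupOfEquivOfLe inf_le_left).toEquiv]
    refine Nat.card_congr (Equiv.subtypeEquivRight fun x => ?_)
    simp [Subgroup.mem_centralizer_iff]
  rw [← h2, card_eq_ker_mul_map (QuotientGroup.mk' Q) L', QuotientGroup.ker_mk']
  obtain ⟨j, -, hj⟩ := (Nat.dvd_prime_pow Nat.prime_two).1
    (h.card ▸ Subgroup.card_dvd_of_le (inf_le_right : L' ⊓ Q ≤ Q))
  rw [hj, show Nat.card (L'.map (QuotientGroup.mk' Q)) = 2048 * 244823040 from by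
    show Nat.card (imageX Q (g * z * g⁻¹)) = _; omega]
  exact ⟨j + 11, by rw [pow_add, mul_assoc]; norm_num⟩

end Cfsg.Agent.Spor.Leech.OddFix
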