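import Cfsg.Agent.Lib.Spor.Leech.OddFix.Lattice
import Cfsg.Agent.Lib.Spor.Leech.BabySection

/-!
In a group of Monster type, the centraliser of an element of odd prime order fixing two centres, modulo that element.
-/

set_option autoImplicit false
set_option maxRecDepth 100000
set_option linter.style.haveILetI false

noncomputable section

namespace Cfsg.Agent.Spor.Leech.OddFix

open Cfsg

/-- Two elements of order prime to a normal subgroup in the same coset are conjugate by it. -/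
theorem fix_conj {Γ : Type*} [Group Γ] [Finite Γ] (N : Subgroup Γ) [N.Normal] {p : ℕ} (hp : p.Prime) {a b : Γ}
    (ha : orderOf a = p) (hb : orderOf b = p) (hN : ¬ p ∣ Nat.card N)
    (he : (QuotientGroup.mk a : Γ ⧸ N) = QuotientGroup.mk b) : ∃ u ∈ N, u * a * u⁻¹ = b := by
  haveI : Fact p.Prime := ⟨hp⟩
  have hnot : ∀ {x : Γ}, orderOf x = p → (QuotientGroup.mk x : Γ ⧸ N) ≠ 1 := fun {x} hx e => by
    rw [QuotientGroup.eq_one_iff] at e
    exact hN (hx ▸ Subgroup.orderOf_dvd_natCard N e)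
  have hob : orderOf (QuotientGroup.mk b : Γ ⧸ N) = p :=
    orderOf_eq_prime (by rw [← QuotientGroup.mk_pow, ← hb, pow_orderOf_eq_one, QuotientGroup.mk_one]) (hnot hb)
  let M : Subgroup Γ := (Subgroup.zpowers (QuotientGroup.mk b : Γ ⧸ N)).comap (QuotientGroup.mk' N)
  have hmemM : ∀ {x : Γ}, x ∈ M ↔ (QuotientGroup.mk x : Γ ⧸ N) ∈ Subgroup.zpowers (QuotientGroup.mk b : Γ ⧸ N) :=
    Iff.rfl
  have hcard : Nat.card M = Nat.card N * p := by
    rw [card_eq_ker_mul_map (QuotientGroup.mk' N) M, QuotientGroup.ker_mk',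
      Subgroup.map_comap_eq_self_of_surjective (QuotientGroup.mk'_surjective N), Nat.card_zpowers, hob,
      inf_eq_right.2 fun x hx => by
        rw [hmemM, (QuotientGroup.eq_one_iff x).2 hx]; exact one_mem _]
  have hfac : (Nat.card M).factorization p = 1 := by
    rw [hcard, Nat.factorization_mul Nat.card_pos.ne' hp.ne_zero, Finsupp.add_apply, hp.factorization_self,
      Nat.factorization_eq_zero_of_not_dvd hN]
  have hbM : b ∈ M := Subgroup.mem_zpowers _
  have haM : a ∈ M := by rw [hmemM, he]; exact Subgroup.mem_zpowers _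
  let Pa : Sylow p M := Sylow.ofCard (Subgroup.zpowers (⟨a, haM⟩ : M))
    (by rw [Nat.card_zpowers, ← Subgroup.orderOf_coe, ha, hfac, pow_one])
  let Pb : Sylow p M := Sylow.ofCard (Subgroup.zpowers (⟨b, hbM⟩ : M))
    (by rw [Nat.card_zpowers, ← Subgroup.orderOf_coe, hb, hfac, pow_one])
  obtain ⟨m, hm⟩ := MulAction.exists_smul_eq M Pa Pb
  have hmem : m * ⟨a, haM⟩ * m⁻¹ ∈ Subgroup.zpowers (⟨b, hbM⟩ : M) := by
    have h1 : m * ⟨a, haM⟩ * m⁻¹ ∈ ((m • Pa : Sylow p M) : Subgroup M) :=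
      ⟨⟨a, haM⟩, Subgroup.mem_zpowers _, rfl⟩
    rw [hm] at h1
    exact h1
  obtain ⟨j, hj⟩ := Subgroup.mem_zpowers_iff.1 hmem
  replace hj : b ^ j = (m : Γ) * a * (m : Γ)⁻¹ := by
    have := congrArg Subtype.val hj
    simpa using this
  obtain ⟨i, hi⟩ := Subgroup.mem_zpowers_iff.1 (hmemM.1 m.2)
  have hq : (QuotientGroup.mk ((m : Γ) * a * (m : Γ)⁻¹) : Γ ⧸ N) = QuotientGroup.mk b := by
    rw [QuotientGroup.mk_mul, QuotientGroup.mk_mul, QuotientGroup.mk_inv, he, ← hi,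
      (Commute.self_zpow (QuotientGroup.mk b : Γ ⧸ N) i).symm.eq, mul_inv_cancel_right]
  have hkey : (m : Γ) * a * (m : Γ)⁻¹ = b := by
    rw [← hj]
    rw [← hj, QuotientGroup.mk_zpow] at hq
    have h2 : (QuotientGroup.mk b : Γ ⧸ N) ^ (j - 1) = 1 := by rw [zpow_sub_one, hq, mul_inv_cancel]
    rw [← orderOf_dvd_iff_zpow_eq_one, hob, ← hb, orderOf_dvd_iff_zpow_eq_one, zpow_sub_one,
      mul_inv_eq_one] at h2
    exact h2
  refine ⟨(b ^ i)⁻¹ * (m : Γ), ?_, ?_⟩
  · rw [← QuotientGroup.eq_one_iff, QuotientGroup.mk_mul, QuotientGroup.mk_inv, QuotientGroup.mk_zpow, hi,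
      inv_mul_cancel]
  · calc (b ^ i)⁻¹ * (m : Γ) * a * ((b ^ i)⁻¹ * (m : Γ))⁻¹ = (b ^ i)⁻¹ * ((m : Γ) * a * (m : Γ)⁻¹) * b ^ i := by group
      _ = (b ^ i)⁻¹ * b * b ^ i := by rw [hkey]
      _ = b := by group

variable {G : Type*} [Group G] {z : G} {Q : Subgroup (Subgroup.centralizer ({z} : Set G))} [hQn : Q.Normal]
  {e : (Subgroup.centralizer ({z} : Set G)) ⧸ Q ≃* Cfsg.Spor.Co1} {ψ : leechLattice → Q ⧸ Subgroup.center Q}
  {p n : ℕ} {P : Co0} {Bs : Fin n → leechLattice} {Gi : Fin n → Fin n → ZMod 2} {b s : G} {i₀ : GolayPt}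

/-- The data of the reduction. -/
structure Setup (z : G) (Q : Subgroup (Subgroup.centralizer ({z} : Set G))) [Q.Normal]
    (e : (Subgroup.centralizer ({z} : Set G)) ⧸ Q ≃* Cfsg.Spor.Co1) (ψ : leechLattice → Q ⧸ Subgroup.center Q)
    (p : ℕ) {n : ℕ} (P : Co0) (Bs : Fin n → leechLattice) (Gi : Fin n → Fin n → ZMod 2) (b s : G) (i₀ : GolayPt) :
    Prop where
  mt : MT z Q e ψ
  prime : p.Prime
  lat : Fix P p Bs Gi
  ord : orderOf b = p
  bz : b * z = z * b
  img : (QuotientGroup.mk P : Cfsg.Spor.Co1) =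
    e (QuotientGroup.mk ⟨b, Subgroup.mem_centralizer_singleton_iff.2 bz⟩)
  Ppow : P ^ p = 1
  bs : b * s = s * b
  sQ : s ∈ QG Q
  rep : Rep ψ (axis i₀) s
  conj : IsConj z s

/-- The centraliser of the subgroup. -/
abbrev CB (b : G) : Subgroup G := Subgroup.centralizer ((Subgroup.zpowers b : Subgroup G) : Set G)

/-- The subgroup divided out. -/
abbrev NT (b : G) : Subgroup (CB b) := (Subgroup.zpowers b).subgroupOf (CB b)

theorem mem_CB {b x : G} : x ∈ CB b ↔ x * b = b * x := by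
  rw [Subgroup.mem_centralizer_iff]
  constructor
  · exact fun h => (h b (Subgroup.mem_zpowers b)).symm
  · rintro h y hy
    obtain ⟨k, rfl⟩ := Subgroup.mem_zpowers_iff.1 hy
    exact ((show Commute x b from h).zpow_right k).eq.symm

/-- The automorphisms commuting with the given one. -/
abbrev Cent (P : Co0) : Subgroup Co0 := Subgroup.centralizer ({P} : Set Co0)

theorem mem_Cent {P g : Co0} : g ∈ Cent P ↔ g * P = P * g := Subgroup.mem_centralizer_singleton_iff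

theorem negCo_comm (g : Co0) : g * negCo = negCo * g :=
  Subgroup.mem_center_iff.1 (mem_center_iff.2 (Or.inr rfl)) g

theorem negCo_sq : negCo * negCo = 1 :=
  ext_axis fun i => by rw [mul_smul, negCo_apply, negCo_apply, neg_neg, one_smul]

/-- What is used of a quotient of the centraliser of the automorphism. -/
structure Quot (P : Co0) {n : ℕ} (Bs : Fin n → leechLattice) {K : Type*} [Group K] (ρ : Cent P →* K) : Prop where
  surj : Function.Surjective ρ
  gen : ∀ h : P ∈ Cent P, ρ ⟨P, h⟩ = 1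
  neg : ∀ h : negCo ∈ Cent P, ρ ⟨negCo, h⟩ = 1
  ker : ∀ g : Cent P, ρ g = 1 → ∃ i : ℕ, (g : Co0) = P ^ i ∨ (g : Co0) = negCo * P ^ i
  faith : ∀ g : Cent P, (∀ k, cls ((g : Co0) • Bs k) = cls (Bs k)) → ρ g = 1
  core : ∀ N : Subgroup K, N.Normal → IsPGroup 2 N → N = ⊥

theorem Quot.center {K : Type*} [Group K] {ρ : Cent P →* K} (hρ : Quot P Bs ρ) {g g' : Cent P}
    (h : (QuotientGroup.mk (g : Co0) : Cfsg.Spor.Co1) = QuotientGroup.mk (g' : Co0)) : ρ g = ρ g' := by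
  rw [QuotientGroup.eq, mem_center_iff] at h
  rw [← inv_mul_eq_one, ← map_inv, ← map_mul]
  rcases h with h | h
  · rw [show g⁻¹ * g' = 1 from Subtype.ext h, map_one]
  · have hm : negCo ∈ Cent P := mem_Cent.2 (negCo_comm P).symm
    rw [show g⁻¹ * g' = ⟨negCo, hm⟩ from Subtype.ext h, hρ.neg]

namespace Setup

variable [Finite G]

theorem bmem (S : Setup z Q e ψ p P Bs Gi b s i₀) : b ∈ Subgroup.centralizer ({z} : Set G) :=
  Subgroup.mem_centralizer_singleton_iff.2 S.bz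

theorem two_ne (S : Setup z Q e ψ p P Bs Gi b s i₀) : p ≠ 2 := fun e' => by
  have := S.lat.odd; omega

theorem not_dvd_card (S : Setup z Q e ψ p P Bs Gi b s i₀) : ¬ p ∣ Nat.card Q := by
  rw [S.mt.card]
  exact fun h => S.two_ne ((Nat.prime_dvd_prime_iff_eq S.prime Nat.prime_two).1 (S.prime.dvd_of_dvd_pow h))

theorem b_pow (S : Setup z Q e ψ p P Bs Gi b s i₀) : b ^ p = 1 := by rw [← S.ord, pow_orderOf_eq_one]

theorem odd_one (S : Setup z Q e ψ p P Bs Gi b s i₀) {y : G} (hy : y ∈ Subgroup.zpowers b) (h2 : y * y = 1) :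
    y = 1 := by
  haveI : Fact p.Prime := ⟨S.prime⟩
  have h1 : orderOf y ∣ p := S.ord ▸ orderOf_dvd_of_mem_zpowers hy
  rcases (Nat.dvd_prime S.prime).1 h1 with h | h
  · exact orderOf_eq_one_iff.1 h
  · have h3 : orderOf y ∣ 2 := orderOf_dvd_of_pow_eq_one (by rw [pow_two, h2])
    rw [h] at h3
    exact absurd ((Nat.prime_dvd_prime_iff_eq S.prime Nat.prime_two).1 h3) S.two_ne

theorem inter_one (S : Setup z Q e ψ p P Bs Gi b s i₀) {y : G} (hy : y ∈ Subgroup.zpowers b) (hQ : y ∈ QG Q) :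
    y = 1 := by
  refine S.odd_one hy ?_
  rcases S.mt.ext.sq y hQ with h | h
  · exact h
  · exfalso
    have h2 : z ∈ Subgroup.zpowers b := h ▸ mul_mem hy hy
    exact S.mt.z_ne (S.odd_one h2 S.mt.z_sq)

theorem b_ne (S : Setup z Q e ψ p P Bs Gi b s i₀) : b ∉ QG Q := fun h => by
  have := S.inter_one (Subgroup.mem_zpowers b) h
  have h1 := S.ord
  rw [this, orderOf_one] at h1
  exact S.prime.one_lt.ne h1

theorem img_pow (S : Setup z Q e ψ p P Bs Gi b s i₀) (i : ℕ) :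
    (QuotientGroup.mk (P ^ i) : Cfsg.Spor.Co1) = e (QuotientGroup.mk (⟨b, S.bmem⟩ ^ i)) := by
  rw [QuotientGroup.mk_pow, QuotientGroup.mk_pow, map_pow, S.img]

theorem orderP (S : Setup z Q e ψ p P Bs Gi b s i₀) : orderOf P = p := by
  haveI : Fact p.Prime := ⟨S.prime⟩
  refine orderOf_eq_prime S.Ppow fun e' => S.b_ne ?_
  have h := S.img.symm.trans ((congrArg _ e').trans (QuotientGroup.mk_one _))
  rw [MulEquiv.map_eq_one_iff, QuotientGroup.eq_one_iff] at h
  exact mem_QG.2 ⟨⟨_, h⟩, rfl⟩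

theorem s_facts (S : Setup z Q e ψ p P Bs Gi b s i₀) : s * s = 1 ∧ s ≠ 1 ∧ s ≠ z :=
  S.mt.rep_involution S.rep (Or.inr (axis_norm i₀))

/-! ### The part in the extraspecial group -/

/-- The centraliser in the extraspecial group. -/
abbrev Q0 (_S : Setup z Q e ψ p P Bs Gi b s i₀) : Subgroup G := QG Q ⊓ Subgroup.centralizer ({b} : Set G)

theorem mem_Q0 (S : Setup z Q e ψ p P Bs Gi b s i₀) {x : G} : x ∈ S.Q0 ↔ x ∈ QG Q ∧ x * b = b * x :=
  ⟨fun h => ⟨h.1, Subgroup.mem_centralizer_singleton_iff.1 h.2⟩,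
    fun h => ⟨h.1, Subgroup.mem_centralizer_singleton_iff.2 h.2⟩⟩

theorem fix_iff (S : Setup z Q e ψ p P Bs Gi b s i₀) {v : leechLattice} {x : G} (hx : Rep ψ v x) :
    x * b = b * x ↔ Fixed P v := by
  have h1 := S.mt.rep_conj (g := P) S.img hx
  constructor
  · intro h
    rw [← h, mul_inv_cancel_right] at h1
    exact S.mt.rep_cls h1 hx
  · intro h
    have hzb : Commute b z := S.bz
    rcases S.mt.rep_unique hx (S.mt.rep_congr h1 h) with e' | e'
    · calc x * b = b * x * b⁻¹ * b := by rw [e']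
        _ = b * x := by group
    · have e2 : Commute (b ^ 2) x := by
        calc b ^ 2 * x = b * (b * x * b⁻¹) * b := by rw [pow_two]; group
          _ = b * (x * z) * b := by rw [e']
          _ = (b * x * b⁻¹) * (b * z * b) := by group
          _ = (b * x * b⁻¹) * (z * b * b) := by rw [hzb.eq]
          _ = x * (z * z) * (b * b) := by rw [e']; group
          _ = x * b ^ 2 := by rw [S.mt.z_sq, mul_one, pow_two]
      obtain ⟨k, hk⟩ : ∃ k, p = 2 * k + 1 := ⟨p / 2, by have := S.lat.odd; omega⟩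
      have e3 : b = ((b ^ 2) ^ k)⁻¹ := by
        refine eq_inv_of_mul_eq_one_right ?_
        rw [← pow_mul, ← pow_succ, ← hk, S.b_pow]
      have e4 : Commute x b := by rw [e3]; exact ((e2.pow_left k).symm).inv_right
      exact e4.eq

theorem s_mem (S : Setup z Q e ψ p P Bs Gi b s i₀) : s ∈ S.Q0 := S.mem_Q0.2 ⟨S.sQ, S.bs.symm⟩

theorem z_mem0 (S : Setup z Q e ψ p P Bs Gi b s i₀) : z ∈ S.Q0 := S.mem_Q0.2 ⟨S.mt.z_mem, S.bz.symm⟩

theorem rep_Q0 (S : Setup z Q e ψ p P Bs Gi b s i₀) {v : leechLattice} {x : G} (hx : Rep ψ v x) (hv : Fixed P v) :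
    x ∈ S.Q0 := S.mem_Q0.2 ⟨MT.rep_mem hx, (S.fix_iff hx).2 hv⟩

theorem exists_fixed (S : Setup z Q e ψ p P Bs Gi b s i₀) {x : G} (hx : x ∈ S.Q0) :
    ∃ v, Rep ψ v x ∧ Fixed P v := by
  obtain ⟨v, hv⟩ := S.mt.exists_vec hx.1
  exact ⟨v, hv, (S.fix_iff hv).1 (S.mem_Q0.1 hx).2⟩

/-- The coordinates on the part in the extraspecial group. -/
def coord (S : Setup z Q e ψ p P Bs Gi b s i₀) : S.Q0 →* Multiplicative (Fin n → ZMod 2) :=
  MonoidHom.mk' (fun x : S.Q0 => Multiplicative.ofAdd (co Bs Gi (S.exists_fixed x.2).choose)) fun x y => by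
    show Multiplicative.ofAdd _ = Multiplicative.ofAdd _ * Multiplicative.ofAdd _
    rw [← ofAdd_add, ← co_add']
    exact congrArg Multiplicative.ofAdd (co_congr (S.mt.rep_cls (S.exists_fixed (x * y).2).choose_spec.1
      (S.mt.rep_add (S.exists_fixed x.2).choose_spec.1 (S.exists_fixed y.2).choose_spec.1)))

theorem coord_eq (S : Setup z Q e ψ p P Bs Gi b s i₀) (x : S.Q0) {v : leechLattice} (hv : Rep ψ v (x : G)) :
    S.coord x = Multiplicative.ofAdd (co Bs Gi v) := by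
  have h : cls (S.exists_fixed x.2).choose = cls v := S.mt.rep_cls (S.exists_fixed x.2).choose_spec.1 hv
  show Multiplicative.ofAdd (co Bs Gi (S.exists_fixed x.2).choose) = _
  rw [co_congr h]

theorem coord_surjective (S : Setup z Q e ψ p P Bs Gi b s i₀) : Function.Surjective S.coord := fun a => by
  obtain ⟨x, hx⟩ := S.mt.exists_rep (comb Bs a.toAdd)
  exact ⟨⟨x, S.rep_Q0 hx (comb_fixed S.lat.fix _)⟩, by rw [S.coord_eq _ hx, S.lat.co_comb, ofAdd_toAdd]⟩

theorem coord_one (S : Setup z Q e ψ p P Bs Gi b s i₀) (x : S.Q0) :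
    S.coord x = 1 ↔ (x : G) = 1 ∨ (x : G) = z := by
  obtain ⟨v, hv, hf⟩ := S.exists_fixed x.2
  rw [S.coord_eq x hv, ← ofAdd_zero, Multiplicative.ofAdd.injective.eq_iff, ← S.mt.rep_zero_iff hv,
    ← S.lat.co_inj hf Fixed.zero, co_zero']

theorem card_ker (S : Setup z Q e ψ p P Bs Gi b s i₀) : Nat.card S.coord.ker = 2 := by
  have hset : (S.coord.ker : Set S.Q0) = {1, ⟨z, S.z_mem0⟩} := by
    ext x
    simp only [SetLike.mem_coe, MonoidHom.mem_ker, S.coord_one, Set.mem_insert_iff, Set.mem_singleton_iff,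
      Subtype.ext_iff, OneMemClass.coe_one]
  rw [← SetLike.coe_sort_coe, Nat.card_coe_set_eq, hset]
  exact Set.ncard_pair fun h => S.mt.z_ne (congrArg Subtype.val h).symm

theorem card_Q0 (S : Setup z Q e ψ p P Bs Gi b s i₀) : Nat.card S.Q0 = 2 ^ (n + 1) := by
  rw [← S.coord.ker.card_mul_index, Subgroup.index_ker, MonoidHom.range_eq_top.2 S.coord_surjective,
    Subgroup.card_top, S.card_ker, Nat.card_congr Multiplicative.toAdd, Nat.card_fun, Nat.card_zmod, Nat.card_fin,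
    pow_succ, mul_comm]

theorem noncomm (S : Setup z Q e ψ p P Bs Gi b s i₀) {x : G} (hx : x ∈ S.Q0) (h1 : x ≠ 1) (hz : x ≠ z) :
    ∃ q ∈ S.Q0, q * x ≠ x * q := by
  obtain ⟨v, hv, hf⟩ := S.exists_fixed hx
  obtain ⟨k, hk⟩ := S.lat.nondeg hf fun h => ((S.mt.rep_zero_iff hv).1 h).elim h1 hz
  obtain ⟨y, hy⟩ := S.mt.exists_rep (Bs k)
  exact ⟨y, S.rep_Q0 hy (S.lat.fix k), fun h => hk ((Baby.comm_iff S.mt hv hy).1 h.symm)⟩

theorem center_Q0 (S : Setup z Q e ψ p P Bs Gi b s i₀) : Nat.card (Subgroup.center S.Q0) = 2 := by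
  have hset : (Subgroup.center S.Q0 : Set S.Q0) = {1, ⟨z, S.z_mem0⟩} := by
    ext x
    simp only [SetLike.mem_coe, Set.mem_insert_iff, Set.mem_singleton_iff]
    constructor
    · intro hx
      by_contra hcon
      simp only [not_or] at hcon
      obtain ⟨q, hq, hne⟩ := S.noncomm x.2 (fun h => hcon.1 (Subtype.ext h)) (fun h => hcon.2 (Subtype.ext h))
      exact hne (congrArg Subtype.val (Subgroup.mem_center_iff.1 hx ⟨q, hq⟩))
    · rintro (rfl | rfl)
      · exact one_mem _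
      · exact Subgroup.mem_center_iff.2 fun g => Subtype.ext (S.mt.ext.central _ g.2.1)
  rw [← SetLike.coe_sort_coe, Nat.card_coe_set_eq, hset]
  exact Set.ncard_pair fun h => S.mt.z_ne (congrArg Subtype.val h).symm

/-! ### The new centraliser -/

/-- The centre in the centraliser. -/
def zc (S : Setup z Q e ψ p P Bs Gi b s i₀) : CB b := ⟨z, mem_CB.2 S.bz.symm⟩

variable [hn : (NT b).Normal]

/-- The new central involution. -/
def zb (S : Setup z Q e ψ p P Bs Gi b s i₀) : CB b ⧸ NT b := QuotientGroup.mk' (NT b) S.zc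

theorem zb_order (S : Setup z Q e ψ p P Bs Gi b s i₀) : orderOf S.zb = 2 := by
  haveI : Fact (Nat.Prime 2) := ⟨Nat.prime_two⟩
  refine orderOf_eq_prime ?_ fun h => S.mt.z_ne ?_
  · rw [pow_two, zb, ← map_mul, show S.zc * S.zc = 1 from Subtype.ext S.mt.z_sq, map_one]
  · rw [zb, QuotientGroup.mk'_apply, QuotientGroup.eq_one_iff] at h
    exact S.odd_one h S.mt.z_sq

/-- The preimage of the new centraliser. -/
abbrev Cz (S : Setup z Q e ψ p P Bs Gi b s i₀) : Subgroup (CB b) :=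
  Subgroup.centralizer ({S.zc} : Set (CB b))

theorem comm_z (S : Setup z Q e ψ p P Bs Gi b s i₀) (c : S.Cz) :
    ((c : CB b) : G) * z = z * ((c : CB b) : G) :=
  congrArg Subtype.val (Subgroup.mem_centralizer_singleton_iff.1 c.2)

theorem comm_b (S : Setup z Q e ψ p P Bs Gi b s i₀) (c : S.Cz) :
    ((c : CB b) : G) * b = b * ((c : CB b) : G) := mem_CB.1 c.1.2

/-- An element commuting with both. -/
def mkC (S : Setup z Q e ψ p P Bs Gi b s i₀) (x : G) (hz : x * z = z * x) (hb : x * b = b * x) : S.Cz :=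
  ⟨⟨x, mem_CB.2 hb⟩, Subgroup.mem_centralizer_singleton_iff.2 (Subtype.ext hz)⟩

/-- The new centraliser. -/
abbrev Dz (S : Setup z Q e ψ p P Bs Gi b s i₀) : Subgroup (CB b ⧸ NT b) :=
  Subgroup.centralizer ({S.zb} : Set (CB b ⧸ NT b))

/-- The map onto the new centraliser. -/
def pi (S : Setup z Q e ψ p P Bs Gi b s i₀) : S.Cz →* S.Dz :=
  ((QuotientGroup.mk' (NT b)).comp S.Cz.subtype).codRestrict _ fun c => by
    simp only [MonoidHom.coe_comp, Subgroup.coe_subtype, Function.comp_apply, Subgroup.mem_centralizer_singleton_iff,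
      zb, ← map_mul, Subgroup.mem_centralizer_singleton_iff.1 c.2]

theorem pi_eq_one (S : Setup z Q e ψ p P Bs Gi b s i₀) {c : S.Cz} :
    S.pi c = 1 ↔ ((c : CB b) : G) ∈ Subgroup.zpowers b := by
  rw [← Subtype.val_inj, OneMemClass.coe_one,
    show ((S.pi c : S.Dz) : CB b ⧸ NT b) = QuotientGroup.mk' (NT b) (c : CB b) from rfl, QuotientGroup.mk'_apply,
    QuotientGroup.eq_one_iff, Subgroup.mem_subgroupOf]

theorem pi_surjective (S : Setup z Q e ψ p P Bs Gi b s i₀) : Function.Surjective S.pi := by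
  rintro ⟨y, hy⟩
  obtain ⟨x, rfl⟩ := QuotientGroup.mk'_surjective (NT b) y
  rw [Subgroup.mem_centralizer_singleton_iff, zb, ← map_mul, ← map_mul, QuotientGroup.mk'_apply,
    QuotientGroup.mk'_apply, QuotientGroup.eq, Subgroup.mem_subgroupOf] at hy
  simp only [Subgroup.coe_mul, Subgroup.coe_inv, zc] at hy
  have hxb : (x : G) * b = b * x := mem_CB.1 x.2
  -- the commutator is a power
  set d := ((x : G) * z)⁻¹ * (z * x) with hd
  have hdb : Commute d z := by
    obtain ⟨k, hk⟩ := Subgroup.mem_zpowers_iff.1 hy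
    rw [← hk]
    exact (show Commute b z from S.bz).zpow_left k
  have e1 : (x : G)⁻¹ * z * (x : G) = z * d := by rw [hd]; group
  have hd2 : d * d = 1 := by
    have e2 : z * d * (z * d) = 1 := by
      rw [← e1]
      calc (x : G)⁻¹ * z * x * ((x : G)⁻¹ * z * x) = (x : G)⁻¹ * (z * z) * x := by group
        _ = 1 := by rw [S.mt.z_sq]; group
    calc d * d = z * z * (d * d) := by rw [S.mt.z_sq, one_mul]
      _ = z * (z * d) * d := by group
      _ = z * (d * z) * d := by rw [hdb.eq]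
      _ = 1 := by rw [← e2]; group
  have hd1 := S.odd_one hy hd2
  rw [hd1, mul_one] at e1
  refine ⟨S.mkC x ?_ hxb, rfl⟩
  calc (x : G) * z = x * ((x : G)⁻¹ * z * x) := by rw [e1]
    _ = z * x := by group

theorem Q0_z (S : Setup z Q e ψ p P Bs Gi b s i₀) {x : G} (hx : x ∈ S.Q0) : x * z = z * x := S.mt.ext.central x hx.1

/-- The part in the extraspecial group inside the preimage. -/
def incl (S : Setup z Q e ψ p P Bs Gi b s i₀) : S.Q0 →* S.Cz :=
  MonoidHom.mk' (fun x => S.mkC x (S.Q0_z x.2) (S.mem_Q0.1 x.2).2) fun _ _ => rfl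

/-- The new extraspecial group. -/
abbrev R (S : Setup z Q e ψ p P Bs Gi b s i₀) : Subgroup S.Dz := (S.pi.comp S.incl).range

theorem incl_injective (S : Setup z Q e ψ p P Bs Gi b s i₀) : Function.Injective (S.pi.comp S.incl) := by
  refine (injective_iff_map_eq_one _).2 fun x hx => Subtype.ext ?_
  rw [MonoidHom.comp_apply, S.pi_eq_one] at hx
  exact S.inter_one hx x.2.1

/-- The identification of the two extraspecial groups. -/
def eR (S : Setup z Q e ψ p P Bs Gi b s i₀) : S.Q0 ≃* S.R := MonoidHom.ofInjective S.incl_injective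

theorem R_normal (S : Setup z Q e ψ p P Bs Gi b s i₀) : S.R.Normal := by
  rw [R, MonoidHom.range_comp]
  refine Subgroup.Normal.map ⟨?_⟩ _ S.pi_surjective
  rintro _ ⟨x, rfl⟩ c
  refine ⟨⟨((c : CB b) : G) * x * ((c : CB b) : G)⁻¹, S.mem_Q0.2 ⟨S.mt.ext.norm _ (S.comm_z c) _ x.2.1, ?_⟩⟩, rfl⟩
  exact ((show Commute _ b from S.comm_b c).mul_left (show Commute _ b from (S.mem_Q0.1 x.2).2)).mul_left
    (show Commute _ b from S.comm_b c).inv_left

theorem card_R (S : Setup z Q e ψ p P Bs Gi b s i₀) : Nat.card S.R = 2 ^ (n + 1) := by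
  rw [← Nat.card_congr S.eR.toEquiv, S.card_Q0]

theorem extraspecial_R (S : Setup z Q e ψ p P Bs Gi b s i₀) (hn1 : 1 ≤ n) : Cfsg.IsExtraspecial 2 S.R := by
  refine Fus.Co1Centre.extraspecial_of_squares S.card_R (by omega) ?_ fun r => ?_
  · rw [← Nat.card_congr (Subgroup.centerCongr S.eR).toEquiv, S.center_Q0]
  · obtain ⟨x, rfl⟩ := S.eR.surjective r
    rw [← map_pow]
    refine Subgroup.mem_center_iff.2 fun r => ?_
    obtain ⟨y, rfl⟩ := S.eR.surjective r
    rw [← map_mul, ← map_mul]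
    refine congrArg _ (Subtype.ext ?_)
    show (y : G) * ((x ^ 2 : S.Q0) : G) = ((x ^ 2 : S.Q0) : G) * (y : G)
    rw [pow_two, Subgroup.coe_mul]
    rcases S.mt.ext.sq _ x.2.1 with h | h <;> rw [h]
    · rw [one_mul, mul_one]
    · exact S.Q0_z y.2

/-! ### The quotient -/

theorem exists_gc (S : Setup z Q e ψ p P Bs Gi b s i₀) (c : S.Cz) : ∃ g : Cent P,
    (QuotientGroup.mk (g : Co0) : Cfsg.Spor.Co1) =
      e (QuotientGroup.mk ⟨((c : CB b) : G), Subgroup.mem_centralizer_singleton_iff.2 (S.comm_z c)⟩) := by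
  obtain ⟨g, hg⟩ := S.mt.exists_auto ⟨((c : CB b) : G), Subgroup.mem_centralizer_singleton_iff.2 (S.comm_z c)⟩
  refine ⟨⟨g, mem_Cent.2 ?_⟩, hg⟩
  have h1 : (QuotientGroup.mk (g * P * g⁻¹) : Cfsg.Spor.Co1) = QuotientGroup.mk P := by
    rw [QuotientGroup.mk_mul, QuotientGroup.mk_mul, QuotientGroup.mk_inv, hg, S.img, ← map_inv, ← map_mul, ← map_mul,
      ← QuotientGroup.mk_inv, ← QuotientGroup.mk_mul, ← QuotientGroup.mk_mul]
    congr 2
    refine Subtype.ext ?_
    show ((c : CB b) : G) * b * ((c : CB b) : G)⁻¹ = b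
    rw [S.comm_b c, mul_inv_cancel_right]
  rw [QuotientGroup.eq, mem_center_iff] at h1
  rcases h1 with h1 | h1
  · exact mul_inv_eq_iff_eq_mul.1 (inv_mul_eq_one.1 h1)
  · exfalso
    rw [inv_mul_eq_iff_eq_mul] at h1
    have h2 : P ^ p = (g * P * g⁻¹) ^ p * negCo ^ p :=
      (congrArg (· ^ p) h1).trans ((show Commute (g * P * g⁻¹) negCo from negCo_comm _).mul_pow p)
    obtain ⟨k, hk⟩ : ∃ k, p = 2 * k + 1 := ⟨p / 2, by have := S.lat.odd; omega⟩
    rw [S.Ppow, conj_pow, S.Ppow, mul_one, mul_inv_cancel, one_mul] at h2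
    rw [hk, pow_succ, pow_mul, pow_two, negCo_sq, one_pow, one_mul] at h2
    have h3 := negCo_apply (axis i₀)
    rw [← h2, one_smul] at h3
    exact axis_ne_neg i₀ i₀ h3

variable {K : Type*} [Group K] {ρ : Cent P →* K}

/-- The map of the preimage to the quotient. -/
def phi (S : Setup z Q e ψ p P Bs Gi b s i₀) (hρ : Quot P Bs ρ) : S.Cz →* K :=
  MonoidHom.mk' (fun c => ρ (S.exists_gc c).choose) fun c d => by
    rw [← map_mul]
    refine hρ.center ?_
    refine (S.exists_gc (c * d)).choose_spec.trans (Eq.symm ?_)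
    rw [Subgroup.coe_mul, QuotientGroup.mk_mul, (S.exists_gc c).choose_spec,
      (S.exists_gc d).choose_spec, ← map_mul, ← QuotientGroup.mk_mul]
    rfl

theorem phi_eq (S : Setup z Q e ψ p P Bs Gi b s i₀) (hρ : Quot P Bs ρ) (c : S.Cz) (g : Cent P)
    (hg : (QuotientGroup.mk (g : Co0) : Cfsg.Spor.Co1) =
      e (QuotientGroup.mk ⟨((c : CB b) : G), Subgroup.mem_centralizer_singleton_iff.2 (S.comm_z c)⟩)) :
    S.phi hρ c = ρ g :=
  hρ.center ((S.exists_gc c).choose_spec.trans hg.symm)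

omit hn in
/-- An element of the centraliser lifting an automorphism that normalises. -/
theorem exists_lift (S : Setup z Q e ψ p P Bs Gi b s i₀) {g : Co0} {i : ℕ} (hi : ¬ p ∣ i)
    (hg : g * P * g⁻¹ = P ^ i) : ∃ c : Subgroup.centralizer ({z} : Set G),
      (QuotientGroup.mk g : Cfsg.Spor.Co1) = e (QuotientGroup.mk c) ∧ (c : G) * b * (c : G)⁻¹ = b ^ i := by
  obtain ⟨c₀, hc₀⟩ := S.mt.exists_elt g
  let b' : Subgroup.centralizer ({z} : Set G) := ⟨b, S.bmem⟩
  have hb' : orderOf b' = p := by rw [← Subgroup.orderOf_coe]; exact S.ord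
  have h1 : orderOf (c₀ * b' * c₀⁻¹) = p := by rw [← MulAut.conj_apply, MulEquiv.orderOf_eq, hb']
  have h2 : orderOf (b' ^ i) = p := by
    rw [Nat.Coprime.orderOf_pow (by rw [hb']; exact S.prime.coprime_iff_not_dvd.2 hi), hb']
  obtain ⟨u, hu, e'⟩ := fix_conj Q S.prime h1 h2 S.not_dvd_card (e.injective (by
    rw [QuotientGroup.mk_mul, QuotientGroup.mk_mul, QuotientGroup.mk_inv, map_mul, map_mul, map_inv, ← hc₀,
      ← S.img, ← S.img_pow, ← QuotientGroup.mk_inv, ← QuotientGroup.mk_mul, ← QuotientGroup.mk_mul, hg]))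
  refine ⟨u * c₀, by rw [QuotientGroup.mk_mul, (QuotientGroup.eq_one_iff u).2 hu, one_mul, hc₀], ?_⟩
  have e2 := congrArg Subtype.val e'
  simp only [Subgroup.coe_mul, Subgroup.coe_inv, SubgroupClass.coe_pow, b'] at e2
  rw [← e2, Subgroup.coe_mul]
  group

theorem phi_surjective (S : Setup z Q e ψ p P Bs Gi b s i₀) (hρ : Quot P Bs ρ) :
    Function.Surjective (S.phi hρ) := fun k => by
  obtain ⟨g, rfl⟩ := hρ.surj k
  obtain ⟨c, hc, hcb⟩ := S.exists_lift (g := (g : Co0)) (i := 1) S.prime.not_dvd_one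
    (by rw [pow_one, mem_Cent.1 g.2, mul_inv_cancel_right])
  rw [pow_one, mul_inv_eq_iff_eq_mul] at hcb
  exact ⟨S.mkC c (Subgroup.mem_centralizer_singleton_iff.1 c.2) hcb, S.phi_eq hρ _ g hc⟩

theorem phi_ker (S : Setup z Q e ψ p P Bs Gi b s i₀) (hρ : Quot P Bs ρ) {c : S.Cz} :
    S.phi hρ c = 1 ↔ ∃ x ∈ S.Q0, ∃ y ∈ Subgroup.zpowers b, ((c : CB b) : G) = x * y := by
  constructor
  · intro h
    obtain ⟨g, hg⟩ := S.exists_gc c
    rw [S.phi_eq hρ c g hg] at h
    obtain ⟨i, hi⟩ := hρ.ker g h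
    have h1 : (QuotientGroup.mk (g : Co0) : Cfsg.Spor.Co1) = QuotientGroup.mk (P ^ i) := by
      rcases hi with hi | hi <;> rw [hi]
      rw [QuotientGroup.mk_mul, (QuotientGroup.eq_one_iff negCo).2 (mem_center_iff.2 (Or.inr rfl)), one_mul]
    rw [hg, S.img_pow, e.injective.eq_iff, eq_comm, QuotientGroup.eq] at h1
    refine ⟨((c : CB b) : G) * (b ^ i)⁻¹, ?_, b ^ i, pow_mem (Subgroup.mem_zpowers b) i, by group⟩
    refine S.mem_Q0.2 ⟨?_, ((show Commute _ b from S.comm_b c).mul_left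
      ((Commute.refl b).pow_left i).inv_left).eq⟩
    have hm : ((b : G) ^ i)⁻¹ * ((c : CB b) : G) ∈ QG Q := mem_QG.2 ⟨⟨_, h1⟩, by simp⟩
    rwa [((show Commute _ b from S.comm_b c).pow_right i).inv_right.eq] 
  · rintro ⟨x, hx, y, hy, hxy⟩
    obtain ⟨i, hi⟩ := (isOfFinOrder_of_finite b).mem_powers_iff_mem_zpowers.2 hy
    have hP : P ^ i ∈ Cent P := mem_Cent.2 ((Commute.refl P).pow_left i).eq
    rw [S.phi_eq hρ c ⟨P ^ i, hP⟩, show (⟨P ^ i, hP⟩ : Cent P) = ⟨P, mem_Cent.2 rfl⟩ ^ i from Subtype.ext rfl,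
      map_pow, hρ.gen, one_pow]
    obtain ⟨q, hq⟩ := mem_QG.1 hx.1
    rw [S.img_pow, e.injective.eq_iff, QuotientGroup.eq]
    have e2 : (⟨((c : CB b) : G), Subgroup.mem_centralizer_singleton_iff.2 (S.comm_z c)⟩ :
        Subgroup.centralizer ({z} : Set G)) = (q : Subgroup.centralizer ({z} : Set G)) * ⟨b, S.bmem⟩ ^ i :=
      Subtype.ext (by rw [Subgroup.coe_mul, SubgroupClass.coe_pow, hq]; exact hxy.trans (congrArg _ hi.symm))
    rw [e2, ← mul_assoc]
    exact hQn.conj_mem' _ q.2 _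

/-- The map of the new centraliser to the quotient. -/
def Phi (S : Setup z Q e ψ p P Bs Gi b s i₀) (hρ : Quot P Bs ρ) : S.Dz →* K :=
  S.pi.liftOfSurjective S.pi_surjective ⟨S.phi hρ, fun c hc => MonoidHom.mem_ker.2 ((S.phi_ker hρ).2
    ⟨1, one_mem _, _, S.pi_eq_one.1 (MonoidHom.mem_ker.1 hc), (one_mul _).symm⟩)⟩

theorem Phi_pi (S : Setup z Q e ψ p P Bs Gi b s i₀) (hρ : Quot P Bs ρ) (c : S.Cz) :
    S.Phi hρ (S.pi c) = S.phi hρ c := MonoidHom.liftOfRightInverse_comp_apply ..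

theorem Phi_surjective (S : Setup z Q e ψ p P Bs Gi b s i₀) (hρ : Quot P Bs ρ) :
    Function.Surjective (S.Phi hρ) := fun k => by
  obtain ⟨c, rfl⟩ := S.phi_surjective hρ k
  exact ⟨S.pi c, S.Phi_pi hρ c⟩

theorem ker_Phi (S : Setup z Q e ψ p P Bs Gi b s i₀) (hρ : Quot P Bs ρ) : (S.Phi hρ).ker = S.R := by
  ext d
  obtain ⟨c, rfl⟩ := S.pi_surjective d
  rw [MonoidHom.mem_ker, S.Phi_pi, S.phi_ker]
  constructor
  · rintro ⟨x, hx, y, hy, hxy⟩
    refine ⟨⟨x, hx⟩, Eq.symm ?_⟩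
    rw [MonoidHom.comp_apply, ← inv_mul_eq_one, ← map_inv, ← map_mul, S.pi_eq_one]
    show ((c : CB b) : G)⁻¹ * x ∈ _
    rw [hxy, mul_inv_rev, inv_mul_cancel_right]
    exact inv_mem hy
  · rintro ⟨x, hx⟩
    rw [MonoidHom.comp_apply, ← inv_mul_eq_one, ← map_inv, ← map_mul, S.pi_eq_one] at hx
    refine ⟨x, x.2, _, hx, ?_⟩
    show ((c : CB b) : G) = (x : G) * ((x : G)⁻¹ * ((c : CB b) : G))
    rw [mul_inv_cancel_left]

/-- The identification of the quotient. -/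
def iso (S : Setup z Q e ψ p P Bs Gi b s i₀) (hρ : Quot P Bs ρ) : haveI := S.R_normal; S.Dz ⧸ S.R ≃* K :=
  haveI := S.R_normal
  (QuotientGroup.quotientMulEquivOfEq (S.ker_Phi hρ).symm).trans
    (QuotientGroup.quotientKerEquivOfSurjective (S.Phi hρ) (S.Phi_surjective hρ))

theorem centralizer_R_le (S : Setup z Q e ψ p P Bs Gi b s i₀) (hρ : Quot P Bs ρ) :
    Subgroup.centralizer (S.R : Set S.Dz) ≤ S.R := by
  intro d hd
  obtain ⟨c, rfl⟩ := S.pi_surjective d
  rw [← S.ker_Phi hρ, MonoidHom.mem_ker, S.Phi_pi]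
  obtain ⟨g, hg⟩ := S.exists_gc c
  rw [S.phi_eq hρ c g hg]
  refine hρ.faith g fun k => ?_
  obtain ⟨y, hy⟩ := S.mt.exists_rep (Bs k)
  have hy0 := S.rep_Q0 hy (S.lat.fix k)
  have h1 : S.pi (S.incl ⟨y, hy0⟩) * S.pi c = S.pi c * S.pi (S.incl ⟨y, hy0⟩) :=
    Subgroup.mem_centralizer_iff.1 hd _ ⟨⟨y, hy0⟩, rfl⟩
  rw [← map_mul, ← map_mul, ← inv_mul_eq_one, ← map_inv, ← map_mul, S.pi_eq_one] at h1
  replace h1 : (y * ((c : CB b) : G))⁻¹ * (((c : CB b) : G) * y) ∈ Subgroup.zpowers b := h1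
  rw [show (y * ((c : CB b) : G))⁻¹ * (((c : CB b) : G) * y) =
    ((c : CB b) : G)⁻¹ * y⁻¹ * ((c : CB b) : G) * y by group] at h1
  have hci : ((c : CB b) : G)⁻¹ * z = z * ((c : CB b) : G)⁻¹ := (show Commute _ z from S.comm_z c).inv_left.eq
  have h2 : ((c : CB b) : G)⁻¹ * y⁻¹ * ((c : CB b) : G) * y ∈ QG Q := by
    have := S.mt.ext.norm _ hci _ (inv_mem hy0.1)
    rw [inv_inv] at this
    exact mul_mem this hy0.1
  have h3 := S.inter_one h1 h2
  have h4 : ((c : CB b) : G) * y * ((c : CB b) : G)⁻¹ = y := by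
    calc ((c : CB b) : G) * y * ((c : CB b) : G)⁻¹
        = y * ((c : CB b) : G) * (((c : CB b) : G)⁻¹ * y⁻¹ * ((c : CB b) : G) * y) * ((c : CB b) : G)⁻¹ := by group
      _ = y := by rw [h3, mul_one, mul_inv_cancel_right]
  have h5 := S.mt.rep_conj hg hy
  rw [h4] at h5
  exact S.mt.rep_cls h5 hy

theorem gfit (S : Setup z Q e ψ p P Bs Gi b s i₀) (hρ : Quot P Bs ρ) :
    Cfsg.generalizedFittingSubgroup S.Dz = S.R := by
  haveI := S.R_normal
  haveI : Fact (Nat.Prime 2) := ⟨Nat.prime_two⟩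
  have hle : S.R ≤ Cfsg.pCore 2 S.Dz := le_sSup ⟨inferInstance, IsPGroup.of_card S.card_R⟩
  have hge : Cfsg.pCore 2 S.Dz ≤ S.R := by
    intro x hx
    have h := hρ.core _ ((Grp.pCore_isNormal : (Cfsg.pCore 2 S.Dz).Normal).map _ (S.Phi_surjective hρ))
      ((Grp.pCore_isPGroup (p := 2) (G := S.Dz)).map _)
    rw [← S.ker_Phi hρ, MonoidHom.mem_ker, ← Subgroup.mem_bot, ← h]
    exact ⟨x, hx, rfl⟩
  have he : Cfsg.pCore 2 S.Dz = S.R := le_antisymm hge hle
  rw [Fus.generalizedFittingSubgroup_eq_of_charP (p := 2) (by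
    show Subgroup.centralizer (Cfsg.pCore 2 S.Dz : Set S.Dz) ≤ Cfsg.pCore 2 S.Dz
    rw [he]; exact S.centralizer_R_le hρ), he]

end Setup

end Cfsg.Agent.Spor.Leech.OddFix
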